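import Groth.Agent.ShStab.K848.Pos

/-!
# Slope stability along a map with kernel and cokernel of codimension at least two
-/

set_option autoImplicit false
universe u
open CategoryTheory CategoryTheory.Limits AlgebraicGeometry Opposite TopologicalSpace Polynomial

namespace K254.MuMap

open ShStab StabCat K848.Poly K848.HB
open Groth.Agent.CohqB.DevSupport Groth.Agent.Sga67.CohBasic

variable (k : Type u) [Field k] {X : Scheme.{u}} [X.Over (Spec (CommRingCat.of k))]
  [IsProper (X ↘ Spec (CommRingCat.of k))] {A : X.Modules}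

omit [X.Over (Spec (CommRingCat.of k))] [IsProper (X ↘ Spec (CommRingCat.of k))] in
theorem dim_mono {S T : Set X} (h : S ⊆ T) : topologicalKrullDim S ≤ topologicalKrullDim T :=
  (Topology.IsInducing.topologicalKrullDim_le (Topology.IsEmbedding.inclusion h).isInducing)

theorem lt_of_le_nat {t : WithBot ℕ∞} {n i : ℕ} (h : t ≤ n) (hi : n + 1 ≤ i) : t < i :=
  lt_of_le_of_lt h (by exact_mod_cast hi)

theorem eq_of_add_one_eq {t : WithBot ℕ∞} {n : ℕ} (h : t + 1 = (n + 2 : ℕ)) : t = (n + 1 : ℕ) := by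
  induction t with
  | bot =>
    rw [WithBot.bot_add] at h
    exact absurd h (WithBot.bot_ne_coe (a := ((n + 2 : ℕ) : ℕ∞)))
  | coe t =>
    have h2 : t + 1 = ((n + 2 : ℕ) : ℕ∞) := WithBot.coe_injective h
    have h3 : t ≠ ⊤ := by
      rintro rfl
      exact absurd h2 (by simpa using (ENat.natCast_ne_top (n + 2)).symm)
    lift t to ℕ using h3
    have h4 : t + 1 = n + 2 := by exact_mod_cast h2
    have h5 : t = n + 1 := by omega
    rw [h5]
    rfl

section Ab
variable {C : Type*} [Category* C] [Abelian C] {E E' : C} (φ : E ⟶ E')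

theorem shortExact_ker_image : (ShortComplex.mk (kernel.ι φ) (Abelian.factorThruImage φ) (by
    rw [← cancel_mono (Abelian.image.ι φ)]; simp)).ShortExact where
  exact := by
    let S₁ := ShortComplex.mk (kernel.ι φ) (Abelian.factorThruImage φ) (by
      rw [← cancel_mono (Abelian.image.ι φ)]; simp)
    let S₂ := ShortComplex.mk (kernel.ι φ) φ (by simp)
    let g : S₁ ⟶ S₂ := { τ₁ := 𝟙 _, τ₂ := 𝟙 _, τ₃ := Abelian.image.ι φ }
    exact (ShortComplex.exact_iff_of_epi_of_isIso_of_mono g).2 (ShortComplex.exact_kernel φ)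
  mono_f := inferInstance
  epi_g := inferInstance

theorem shortExact_image_coker : (ShortComplex.mk (Abelian.image.ι φ) (cokernel.π φ) (by simp)).ShortExact where
  exact := ShortComplex.exact_kernel (cokernel.π φ)
  mono_f := inferInstance
  epi_g := inferInstance

end Ab

/-- the coefficients above the dimension of the kernel do not change on passing to the image -/
theorem alpha_image (hA : PicF.IsInvertible A) {E E' : X.Modules} (φ : E ⟶ E') (hE : Coh.IsCoh E)
    (hE' : Coh.IsCoh E') {n : ℕ} (hk : topologicalKrullDim (CohB1.support (kernel φ)) ≤ n) {i : ℕ} (hi : n + 1 ≤ i) :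
    alpha i (hp k A (Abelian.image φ)) = alpha i (hp k A E) := by
  have := Groth.Agent.Fga.SnapperTwist.isNoetherian_of_proper k X
  have h1 := hp_add k hA (shortExact_ker_image φ) (isCoh_kernel φ hE hE'.1) hE (isCoh_image φ hE hE'.1)
  dsimp only at h1
  rw [h1, alpha_add, alpha_hp_eq_zero k hA (isCoh_kernel φ hE hE'.1) (lt_of_le_nat hk hi), zero_add]

/-- the coefficients above the dimension of the cokernel are those of the image -/
theorem alpha_target (hA : PicF.IsInvertible A) {E E' : X.Modules} (φ : E ⟶ E') (hE : Coh.IsCoh E)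
    (hE' : Coh.IsCoh E') {n : ℕ} (hc : topologicalKrullDim (CohB1.support (cokernel φ)) ≤ n) {i : ℕ}
    (hi : n + 1 ≤ i) :
    alpha i (hp k A (Abelian.image φ)) = alpha i (hp k A E') := by
  have := Groth.Agent.Fga.SnapperTwist.isNoetherian_of_proper k X
  have hcc := Groth.Agent.PerfA.CohSerre.isCoh_cokernel φ hE.1 hE'
  have h1 := hp_add k hA (shortExact_image_coker φ) (isCoh_image φ hE hE'.1) hE' hcc
  dsimp only at h1
  rw [h1, alpha_add, alpha_hp_eq_zero k hA hcc (lt_of_le_nat hc hi), add_zero]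

/-- the image of a submodule -/
theorem sub_image (hA : CohB1.IsAmple A) {E E' : X.Modules} (φ : E ⟶ E') (hE' : Coh.IsCoh E') {n : ℕ}
    (hk : topologicalKrullDim (CohB1.support (kernel φ)) ≤ n) {F : X.Modules} (ι : F ⟶ E) [Mono ι]
    (hF : Coh.IsCoh F) :
    ∃ (G : X.Modules) (κ : G ⟶ E'), Mono κ ∧ Coh.IsCoh G ∧ CohB1.support G ⊆ CohB1.support F ∧
      ∀ i, n + 1 ≤ i → alpha i (hp k A G) = alpha i (hp k A F) := by
  refine ⟨Abelian.image (ι ≫ φ), Abelian.image.ι _, inferInstance, isCoh_image _ hF hE'.1,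
    support_subset_of_epi (Abelian.factorThruImage (ι ≫ φ)), fun i hi => ?_⟩
  refine alpha_image k hA.1 (ι ≫ φ) hF hE' ?_ hi
  let j : kernel (ι ≫ φ) ⟶ kernel φ := kernel.lift φ (kernel.ι (ι ≫ φ) ≫ ι) (by simp)
  have hj : Mono j := by
    have : Mono (j ≫ kernel.ι φ) := by
      rw [kernel.lift_ι]
      infer_instance
    exact mono_of_mono j (kernel.ι φ)
  exact (dim_mono (support_subset_of_mono j)).trans hk

theorem isMuStable_of_map (hA : CohB1.IsAmple A) (n : ℕ) (hn : topologicalKrullDim X = (n + 2 : ℕ))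
    {E E' : X.Modules} (hE : Coh.IsCoh E) (hE' : Coh.IsCoh E') (φ : E ⟶ E')
    (hk : topologicalKrullDim (CohB1.support (kernel φ)) ≤ n)
    (hc : topologicalKrullDim (CohB1.support (cokernel φ)) ≤ n) (h : IsMuStable k X A E' (n + 2)) :
    IsMuStable k X A E (n + 2) := by
  obtain ⟨-, h0, hd, htor, hst⟩ := h
  have hEE : ∀ i, n + 1 ≤ i → alpha i (hp k A E) = alpha i (hp k A E') := fun i hi =>
    (alpha_image k hA.1 φ hE hE' hk hi).symm.trans (alpha_target k hA.1 φ hE hE' hc hi)
  have hpos : 0 < alpha (n + 2) (hp k A E) := by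
    rw [hEE _ (by omega)]
    exact alpha_hp_pos k hA hE' hd
  have hle : topologicalKrullDim (CohB1.support E) ≤ (n + 2 : ℕ) :=
    (topologicalKrullDim_subspace_le X _).trans hn.le
  refine ⟨hE, fun hz => ?_, le_antisymm hle (not_lt.1 fun hlt => hpos.ne' (alpha_hp_eq_zero k hA.1 hE hlt)), ?_, ?_⟩
  · rw [hp_isZero k hA.1 hz] at hpos
    simp [alpha] at hpos
  · intro F ι hι hF hdim
    have hdim' : topologicalKrullDim (CohB1.support F) = (n + 1 : ℕ) := eq_of_add_one_eq hdim
    obtain ⟨G, κ, hκ, hG, hsup, hα⟩ := sub_image k hA φ hE' hk ι hF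
    have h1 := alpha_hp_pos k hA hF hdim'
    rw [← hα _ le_rfl] at h1
    have h2 : topologicalKrullDim (CohB1.support G) = (n + 1 : ℕ) :=
      le_antisymm ((dim_mono hsup).trans hdim'.le)
        (not_lt.1 fun hlt => h1.ne' (alpha_hp_eq_zero k hA.1 hG hlt))
    refine htor G κ hκ hG ?_
    rw [h2]
    push_cast
    ring
  · intro F ι hι hF pF pE hpF hpE h1 h2
    obtain ⟨G, κ, hκ, hG, hsup, hα⟩ := sub_image k hA φ hE' hk ι hF
    rw [eq_hp k hpF, eq_hp k hpE] at *
    rw [← hα _ (by omega)] at h1 h2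
    rw [hEE _ (by omega)] at h2
    have := hst G κ hκ hG _ _ (isHilbPoly_hp k hA.1 hG) (isHilbPoly_hp k hA.1 hE') h1 h2
    rw [hatSlope, hatSlope] at this ⊢
    rwa [← hα _ (by omega), ← hα _ (by omega), hEE _ (by omega), hEE _ (by omega)]

end K254.MuMap
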