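import Groth.Agent.SymProd.K992.FibPow
import Groth.Agent.Fga.PicMon
import Groth.Prelude.Def_TautSec2

/-!
# The square `X ×_S X` as a fibre power; the class of `L ⊠ L`
-/

set_option autoImplicit false
universe u
open CategoryTheory CategoryTheory.Limits AlgebraicGeometry

namespace K254.Fib2

open K992.FibPow Groth.Agent.Fga.PicMon

variable {X S : Scheme.{u}} (f : X ⟶ S)

theorem isPullback_two : IsPullback (pr f (0 : Fin 2)) (pr f (1 : Fin 2)) f f := by
  have w : pr f (0 : Fin 2) ≫ f = pr f (1 : Fin 2) ≫ f := (pr_comp f _).trans (pr_comp f _).symm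
  have hl : ∀ s : PullbackCone f f, ∀ i : Fin 2, (![s.fst, s.snd] : Fin 2 → (s.pt ⟶ X)) i ≫ f = s.fst ≫ f := by
    intro s i
    fin_cases i
    · rfl
    · exact s.condition.symm
  refine ⟨⟨w⟩, ⟨PullbackCone.IsLimit.mk w (fun s => lift f (s.fst ≫ f) ![s.fst, s.snd] (hl s)) (fun s => ?_)
    (fun s => ?_) (fun s m h0 h1 => ?_)⟩⟩
  · exact lift_pr f _ _ (hl s) 0
  · exact lift_pr f _ _ (hl s) 1
  · refine hom_ext_pos f fun i => ?_
    rw [lift_pr]
    fin_cases i
    · exact h0
    · exact h1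

theorem mc_boxPow_two (L : X.Modules) : mc (TautSh.boxPow f 2 L) =
    mc ((Scheme.Modules.pullback (pr f (0 : Fin 2))).obj L) *
      mc ((Scheme.Modules.pullback (pr f (1 : Fin 2))).obj L) := by
  have h : List.finRange 2 = [0, 1] := rfl
  rw [TautSh.boxPow, h]
  simp only [List.foldr_cons, List.foldr_nil, mc_tensor, mc_one, mul_one]

theorem permHom_swap_pr0 : SymProd.permHom f 2 (Equiv.swap 0 1) ≫ pr f (0 : Fin 2) = pr f (1 : Fin 2) := by
  have h := SymProd.permHom_π f 2 (Equiv.swap 0 1) 0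
  rw [Equiv.symm_swap, Equiv.swap_apply_left] at h
  exact h

theorem permHom_swap_pr1 : SymProd.permHom f 2 (Equiv.swap 0 1) ≫ pr f (1 : Fin 2) = pr f (0 : Fin 2) := by
  have h := SymProd.permHom_π f 2 (Equiv.swap 0 1) 1
  rw [Equiv.symm_swap, Equiv.swap_apply_right] at h
  exact h

end K254.Fib2
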