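import Groth.Agent.ShStab.K848.SubFree
import Groth.Agent.Ega1.SuppTensorMod
import Groth.Agent.CycB.C1Pull
import Groth.Agent.PerfB.FlatPull

/-!
# Nonvanishing of pullbacks of a nonzero map from an invertible module to a bundle

`exists_open`: for `P` integral and locally Noetherian, `φ : G ⟶ E` nonzero, `G` invertible and `E` finite locally
free, there is a nonempty open `U` such that `j^* φ ≠ 0` for every morphism `j` whose range meets `U`.
-/

set_option autoImplicit false
universe u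
open CategoryTheory CategoryTheory.Limits AlgebraicGeometry Opposite TopologicalSpace

namespace K254.NonZero

open Groth.Agent K848.TF K848.Rank K848.Hull K848.Stab
open Groth.Agent.CohqB.DevSupport Groth.Agent.Sga67.CohBasic Groth.Agent.CycB.StalkExact
  Groth.Agent.CycB.CohStalk Groth.Agent.VarietyB.ExactLoc

theorem support_inv {Y : Scheme.{u}} {L : Y.Modules} (hL : PicF.IsInvertible L) : CohB1.support L = Set.univ := by
  refine Set.eq_univ_of_forall fun x => ?_
  by_contra h
  rw [CohqB.DevSupport.not_mem_support_iff] at h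
  obtain ⟨t, ht⟩ := CycB.ModStalk.exists_isGen hL x
  have h1 : Subsingleton (Y.presheaf.stalk x) := ht.1.subsingleton
  exact one_ne_zero (Subsingleton.elim (1 : Y.presheaf.stalk x) 0)

theorem map_zero_of_iso {C D : Type*} [Category* C] [Category* D] [HasZeroMorphisms D] {F G : C ⥤ D} (e : F ≅ G)
    {X Y : C} (f : X ⟶ Y) (h : F.map f = 0) : G.map f = 0 := by
  have h1 := e.hom.naturality f
  rw [h, zero_comp] at h1
  rw [← cancel_epi (e.hom.app X), ← h1, comp_zero]

section Inv

variable {P : Scheme.{u}} [IsIntegral P]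

/-- the cokernel of a nonzero map into an invertible module is torsion -/
theorem generic_notMem {M L : P.Modules} (hM : Coh.IsCoh M) (hL : PicF.IsInvertible L) (ψ : M ⟶ L) (hψ : ψ ≠ 0) :
    genericPoint P ∉ CohB1.support (cokernel ψ) := by
  have hLc := isCoh_of_isInvertible hL
  have hc := Groth.Agent.PerfA.CohSerre.isCoh_cokernel ψ hM.1 hLc
  have hi := isCoh_image ψ hM hLc.1
  rw [← rk_eq_zero_iff hc]
  by_contra h0
  have hS : (ShortComplex.mk (Abelian.image.ι ψ) (cokernel.π ψ) (by simp)).ShortExact :=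
    { exact := ShortComplex.exact_kernel (cokernel.π ψ)
      mono_f := inferInstance
      epi_g := inferInstance }
  have h1 := rk_shortExact hS hLc
  dsimp only at h1
  have h2 : rk L = 1 := rk_structureModule_of_isInvertible hL
  have h3 : rk (Abelian.image ψ) = 0 := by omega
  have htf : TorSh.IsTorsionFree (Abelian.image ψ) :=
    isTorsionFree_of_mono (Abelian.image.ι ψ) (isTorsionFree_of_isFinLocFree (isFinLocFree_of_isInvertible hL))
  have h4 : IsZero (Abelian.image ψ) := isZero_of_rk hi htf h3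
  apply hψ
  rw [← Abelian.image.fac ψ, h4.eq_of_tgt (Abelian.factorThruImage ψ) 0, zero_comp]

/-- nonvanishing of pullbacks of a nonzero map into an invertible module -/
theorem exists_open_inv {M L : P.Modules} (hM : Coh.IsCoh M) (hL : PicF.IsInvertible L) (ψ : M ⟶ L)
    (hψ : ψ ≠ 0) :
    ∃ U : P.Opens, (U : Set P).Nonempty ∧ ∀ {Y : Scheme.{u}} (j : Y ⟶ P) (y : Y), j y ∈ U →
      (Scheme.Modules.pullback j).map ψ ≠ 0 := by
  have hLc := isCoh_of_isInvertible hL
  have hc := Groth.Agent.PerfA.CohSerre.isCoh_cokernel ψ hM.1 hLc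
  have hcl : IsClosed (CohB1.support (cokernel ψ)) := Groth.Agent.S0020.result P _ hc.2
  refine ⟨⟨(CohB1.support (cokernel ψ))ᶜ, hcl.isOpen_compl⟩, ⟨genericPoint P, generic_notMem hM hL ψ hψ⟩, ?_⟩
  intro Y j y hy h0
  have hex : (ShortComplex.mk ψ (cokernel.π ψ) (cokernel.condition ψ)).Exact := ShortComplex.exact_cokernel ψ
  have h1 := hex.map_of_epi_of_preservesCokernel (Scheme.Modules.pullback j) (by dsimp; infer_instance)
    inferInstance
  have h2 : Mono ((Scheme.Modules.pullback j).map (cokernel.π ψ)) := h1.mono_g h0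
  have h3 : y ∈ CohB1.support ((Scheme.Modules.pullback j).obj L) := by
    rw [support_inv (CycB.C1Pull.isInvertible_pullback j hL)]
    trivial
  have h4 := support_subset_of_mono ((Scheme.Modules.pullback j).map (cokernel.π ψ)) h3
  rw [Ega1.SuppTensorMod.mem_support_pullback j _ hc.2] at h4
  exact hy h4

/-- the restriction of a nonzero map to a nonempty open subset -/
theorem restrict_ne_zero {M E : P.Modules} (hE : Coh.IsQCoh E) (htf : TorSh.IsTorsionFree E) (φ : M ⟶ E)
    (hφ : φ ≠ 0) (W : P.Opens) (hW : genericPoint P ∈ W) :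
    (Scheme.Modules.restrictFunctor W.ι).map φ ≠ 0 := by
  intro h0
  apply hφ
  ext V s
  change φ.app V s = 0
  refine eq_zero_of_germ _ fun x hx => ?_
  apply spec_injective hE htf x
  rw [map_zero]
  have hηV : genericPoint P ∈ V := (gen x).mem_open V.isOpen hx
  refine (TopCat.Presheaf.germ_stalkSpecializes_apply E.presheaf hx (gen x) (φ.app V s)).trans ?_
  let O : P.Opens := W.ι ''ᵁ (W.ι ⁻¹ᵁ V)
  have hO : O ≤ V := Scheme.Hom.image_preimage_le W.ι V
  have hηO : genericPoint P ∈ O := ⟨⟨genericPoint P, hW⟩, hηV, rfl⟩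
  have h1 : φ.app O (M.presheaf.map (homOfLE hO).op s) = 0 := by
    have h2 : ((Scheme.Modules.restrictFunctor W.ι).map φ).app (W.ι ⁻¹ᵁ V) (M.presheaf.map (homOfLE hO).op s) =
        0 := by
      rw [h0]
      rfl
    exact h2
  have h3 : E.presheaf.map (homOfLE hO).op (φ.app V s) = φ.app O (M.presheaf.map (homOfLE hO).op s) :=
    (ConcreteCategory.congr_hom (φ.mapPresheaf.naturality (homOfLE hO).op) s).symm
  rw [← TopCat.Presheaf.germ_res_apply E.presheaf (homOfLE hO) (genericPoint P) hηO, h3, h1, map_zero]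

end Inv

/-- a nonzero map into a free module has a nonzero coordinate -/
theorem exists_coord {W : Scheme.{u}} {e : ℕ} {F : W.Modules} (ι : F ⟶ FlatMod.freeMod W e) (h : ι ≠ 0) :
    ∃ c : FlatMod.freeMod W e ⟶ Coh.structureModule W, ι ≫ c ≠ 0 := by
  by_contra hcon
  push Not at hcon
  apply h
  have h2 : ι ≫ ∑ j : Fin e, Groth.Agent.S0938.pr W j ≫ Sigma.ι (fun _ : Fin e => Coh.structureModule W) j = 0 := by
    rw [Preadditive.comp_sum]
    refine Finset.sum_eq_zero fun j _ => ?_
    rw [← Category.assoc, hcon, Limits.zero_comp]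
  rw [Groth.Agent.S0938.sum_pr_ι] at h2
  exact (Category.comp_id ι).symm.trans h2

/-- pullbacks of a module along a morphism landing in a trivializing open -/
theorem pull_triv {Y Z : Scheme.{u}} (j : Y ⟶ Z) {U : Z.Opens} (hU : Set.range j ⊆ U) {F : Z.Modules} {r : ℕ}
    (e : F.restrict U.ι ≅ FlatMod.freeMod (↑U) r) :
    Nonempty ((Scheme.Modules.pullback j).obj F ≅ FlatMod.freeMod Y r) := by
  let j' : Y ⟶ U := IsOpenImmersion.lift U.ι j (by rwa [Scheme.Opens.range_ι])
  have hj : j' ≫ U.ι = j := IsOpenImmersion.lift_fac _ _ _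
  exact ⟨(Scheme.Modules.pullbackCongr hj.symm).app F ≪≫ ((Scheme.Modules.pullbackComp j' U.ι).app F).symm ≪≫
    (Scheme.Modules.pullback j').mapIso ((Scheme.Modules.restrictFunctorIsoPullback U.ι).symm.app F ≪≫ e) ≪≫
    Groth.Agent.PerfB.FlatPull.pullbackFreeMod j' r⟩

/-- **Nonvanishing of pullbacks.** -/
theorem exists_open {P : Scheme.{u}} [IsIntegral P] {G E : P.Modules} (hG : PicF.IsInvertible G)
    (hE : FlatMod.IsFinLocFree E) (φ : G ⟶ E) (hφ : φ ≠ 0) :
    ∃ U : P.Opens, (U : Set P).Nonempty ∧ ∀ {Y : Scheme.{u}} (j : Y ⟶ P) (y : Y), j y ∈ U →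
      (Scheme.Modules.pullback j).map φ ≠ 0 := by
  obtain ⟨W, n, hW, ⟨e⟩⟩ := hE (genericPoint P)
  have hEq : Coh.IsQCoh E := (PerfA.CohSerre.isCoh_of_isFinLocFree hE).1
  have h1 := restrict_ne_zero hEq (isTorsionFree_of_isFinLocFree hE) φ hφ W hW
  have h2 : (Scheme.Modules.restrictFunctor W.ι).map φ ≫ e.hom ≠ 0 := by
    intro h
    apply h1
    rw [← cancel_mono e.hom, h, zero_comp]
  obtain ⟨c, hc⟩ := exists_coord _ h2
  have : Nonempty (W : Scheme.{u}) := ⟨⟨_, hW⟩⟩
  have hGW : PicF.IsInvertible ((Scheme.Modules.pullback W.ι).obj G) := CycB.C1Pull.isInvertible_pullback W.ι hG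
  have hGc : Coh.IsCoh ((Scheme.Modules.restrictFunctor W.ι).obj G) :=
    isCoh_of_iso ((Scheme.Modules.restrictFunctorIsoPullback W.ι).symm.app G) (isCoh_of_isInvertible hGW)
  obtain ⟨U', hU', h3⟩ := exists_open_inv hGc Fdesc.LocGen.isInvertible_structureModule
    (((Scheme.Modules.restrictFunctor W.ι).map φ ≫ e.hom) ≫ c) hc
  refine ⟨W.ι ''ᵁ U', ?_, ?_⟩
  · obtain ⟨z, hz⟩ := hU'
    exact ⟨W.ι z, ⟨z, hz, rfl⟩⟩
  · intro Y j y hy h0
    obtain ⟨z, hz, hzy⟩ := hy
    have hyW : j y ∈ W := by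
      rw [← hzy]
      exact z.2
    let y' : ((j ⁻¹ᵁ W : Y.Opens) : Scheme.{u}) := ⟨y, hyW⟩
    have hj : (j ∣_ W) ≫ W.ι = (j ⁻¹ᵁ W).ι ≫ j := morphismRestrict_ι j W
    have hy' : (j ∣_ W) y' = z := by
      apply Subtype.ext
      have h4 : ((j ∣_ W) ≫ W.ι) y' = ((j ⁻¹ᵁ W).ι ≫ j) y' := by rw [hj]
      have h8 : ((j ∣_ W) ≫ W.ι) y' = W.ι z := h4.trans hzy.symm
      exact h8
    refine h3 (j ∣_ W) y' (by rw [hy']; exact hz) ?_
    have h5 : (Scheme.Modules.pullback ((j ∣_ W) ≫ W.ι)).map φ = 0 := by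
      have h6 : (Scheme.Modules.pullback j ⋙ Scheme.Modules.pullback (j ⁻¹ᵁ W).ι).map φ = 0 := by
        rw [Functor.comp_map, h0, Functor.map_zero]
      exact map_zero_of_iso (Scheme.Modules.pullbackComp (j ⁻¹ᵁ W).ι j ≪≫ Scheme.Modules.pullbackCongr hj.symm) φ h6
    have h7 : (Scheme.Modules.restrictFunctor W.ι ⋙ Scheme.Modules.pullback (j ∣_ W)).map φ = 0 :=
      map_zero_of_iso ((Scheme.Modules.pullbackComp (j ∣_ W) W.ι).symm ≪≫
        Functor.isoWhiskerRight (Scheme.Modules.restrictFunctorIsoPullback W.ι).symm _) φ h5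
    rw [Functor.map_comp, Functor.map_comp]
    rw [Functor.comp_map] at h7
    rw [h7, zero_comp, zero_comp]

end K254.NonZero
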