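import Groth.Agent.TautSh.K254.Triple
import Groth.Agent.TautSh.K254.NonZero
import Groth.Agent.TautSh.K254.Fib2
import Groth.Agent.SymProd.K992.BigDiag
import Groth.Agent.S1582

/-!
# The slope inequality on `X × X` for a symmetric invertible module mapping to `pr_0^* F`
-/

set_option autoImplicit false
universe u
open CategoryTheory CategoryTheory.Limits AlgebraicGeometry Opposite TopologicalSpace Polynomial

namespace K254.DegLt

open Groth.Agent Groth.Agent.Fga Groth.Agent.Fga.PicMon Groth.Agent.Fga.SnapperTwist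
open K848.HB K848.Poly K848.Stab K848.Rank K848.Hull StabCat K254.Slice K254.Num K254.SlopeX K254.Triple K254.Fib2

section Points

variable (k : Type u) [Field k] [IsAlgClosed k] {X P : Scheme.{u}} [X.Over (Spec (CommRingCat.of k))]
  [IsProper (X ↘ Spec (CommRingCat.of k))] {p q : P ⟶ X}
  (sq : IsPullback p q (X ↘ Spec (CommRingCat.of k)) (X ↘ Spec (CommRingCat.of k)))

/-- the slice over a rational point of the first factor -/
noncomputable def slice0 {σ : Spec (CommRingCat.of k) ⟶ X} (hσ : σ ≫ (X ↘ Spec (CommRingCat.of k)) = 𝟙 _) : X ⟶ P :=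
  sq.lift ((X ↘ Spec (CommRingCat.of k)) ≫ σ) (𝟙 X) (by rw [Category.assoc, hσ, Category.comp_id, Category.id_comp])

section

variable {σ : Spec (CommRingCat.of k) ⟶ X} (hσ : σ ≫ (X ↘ Spec (CommRingCat.of k)) = 𝟙 _)

omit [IsAlgClosed k] [IsProper (X ↘ Spec (CommRingCat.of k))]

theorem slice0_p : slice0 k sq hσ ≫ p = (X ↘ Spec (CommRingCat.of k)) ≫ σ := sq.lift_fst _ _ _

theorem slice0_q : slice0 k sq hσ ≫ q = 𝟙 X := sq.lift_snd _ _ _

theorem isPullback_slice0 : IsPullback (slice0 k sq hσ) (X ↘ Spec (CommRingCat.of k)) p σ := by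
  refine IsPullback.of_right (h₁₂ := q) (h₂₂ := X ↘ Spec (CommRingCat.of k)) (v₁₃ := X ↘ Spec (CommRingCat.of k)) ?_
    (slice0_p k sq hσ) sq.flip
  rw [slice0_q, hσ]
  exact IsPullback.of_horiz_isIso ⟨by simp⟩

end

/-- a rational point such that both slices through it meet a given nonempty open subset -/
theorem exists_point [IrreducibleSpace X] (hpo : IsOpenMap p) (hqo : IsOpenMap q) (U : P.Opens)
    (hU : (U : Set P).Nonempty) :
    ∃ (σ : Spec (CommRingCat.of k) ⟶ X) (hσ : σ ≫ (X ↘ Spec (CommRingCat.of k)) = 𝟙 _),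
      (∃ y, slice0 k sq hσ y ∈ U) ∧ (∃ y, slice0 k sq.flip hσ y ∈ U) := by
  have : JacobsonSpace X := LocallyOfFiniteType.jacobsonSpace (X ↘ Spec (CommRingCat.of k))
  have h1 : IsOpen (p '' (U : Set P)) := hpo _ U.isOpen
  have h2 : IsOpen (q '' (U : Set P)) := hqo _ U.isOpen
  have h3 : (p '' (U : Set P) ∩ q '' (U : Set P)).Nonempty :=
    nonempty_preirreducible_inter h1 h2 (hU.image _) (hU.image _)
  obtain ⟨x, ⟨⟨u, hu, hux⟩, ⟨v, hv, hvx⟩⟩, hx⟩ := nonempty_inter_closedPoints h3 (h1.inter h2).isLocallyClosed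
  rw [mem_closedPoints_iff] at hx
  let σ := pointOfClosedPoint (X ↘ Spec (CommRingCat.of k)) x hx
  have hσ : σ ≫ (X ↘ Spec (CommRingCat.of k)) = 𝟙 _ := pointOfClosedPoint_comp _ _ _
  have hσx : σ (IsLocalRing.closedPoint k) = x := pointOfClosedPoint_apply _ _ _ _
  refine ⟨σ, hσ, ?_, ?_⟩
  · obtain ⟨y, hy, -⟩ := AlgebraicGeometry.Scheme.exists_preimage_of_isPullback (isPullback_slice0 k sq hσ) u (IsLocalRing.closedPoint k)
      (hux.trans hσx.symm)
    exact ⟨y, by rw [hy]; exact hu⟩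
  · obtain ⟨y, hy, -⟩ := AlgebraicGeometry.Scheme.exists_preimage_of_isPullback (isPullback_slice0 k sq.flip hσ) v
      (IsLocalRing.closedPoint k) (hvx.trans hσx.symm)
    exact ⟨y, by rw [hy]; exact hv⟩

end Points

section Main

variable (k : Type u) [Field k] [IsAlgClosed k] {X P : Scheme.{u}} [X.Over (Spec (CommRingCat.of k))]
  [P.Over (Spec (CommRingCat.of k))] [IsIntegral X] [Smooth (X ↘ Spec (CommRingCat.of k))]
  [IsProper (X ↘ Spec (CommRingCat.of k))]

/-- the slope inequality on a scheme isomorphic to `X × X` -/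
theorem deg_lt_square (hdim : topologicalKrullDim X = 2) {p q : P ⟶ X}
    (sq : IsPullback p q (X ↘ Spec (CommRingCat.of k)) (X ↘ Spec (CommRingCat.of k)))
    (hp : p ≫ (X ↘ Spec (CommRingCat.of k)) = P ↘ Spec (CommRingCat.of k))
    {s : P ⟶ P} [IsIso s] (hsp : s ≫ p = q) (hsq : s ≫ q = p) {L F : X.Modules} (hL : CohB1.IsAmple L)
    {r : ℕ} (hF : FlatMod.IsFinLocFreeOfRank r F)
    (hFO : IsEmpty (F ≅ Coh.structureModule X)) (hst : ShStab.IsMuStable k X L F 2)
    {G : P.Modules} (hG : PicF.IsInvertible G) (esw : Nonempty ((Scheme.Modules.pullback s).obj G ≅ G))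
    (φ : G ⟶ (Scheme.Modules.pullback p).obj F) (hφ : φ ≠ 0) {H : P.Modules}
    (hH : mc H * (mc ((Scheme.Modules.pullback p).obj L) * mc ((Scheme.Modules.pullback q).obj L)) = 1) :
    (r : ℤ) * (FGA.intNum k P 4 (fun _ : Fin 3 => H) G -
        FGA.intNum k P 4 (fun _ : Fin 3 => H) (Coh.structureModule _)) <
      FGA.intNum k P 4 (fun _ : Fin 3 => H) ((Scheme.Modules.pullback p).obj F) -
        r * FGA.intNum k P 4 (fun _ : Fin 3 => H) (Coh.structureModule _) := by
  have hn : topologicalKrullDim X = (2 : ℕ) := hdim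
  have hFl : FlatMod.IsFinLocFree F := fun x => by
    obtain ⟨V, hxV, e⟩ := hF x
    exact ⟨V, r, hxV, e⟩
  have hFc : Coh.IsCoh F := PerfA.CohSerre.isCoh_of_isFinLocFree hFl
  have hq : q ≫ (X ↘ Spec (CommRingCat.of k)) = P ↘ Spec (CommRingCat.of k) := by rw [← sq.w, hp]
  -- the morphisms
  have hpf : Flat p := MorphismProperty.of_isPullback sq.flip inferInstance
  have hpp : IsProper p := MorphismProperty.of_isPullback sq.flip inferInstance
  have hqf : Flat q := MorphismProperty.of_isPullback sq inferInstance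
  have hqp : IsProper q := MorphismProperty.of_isPullback sq inferInstance
  have hpl : LocallyOfFinitePresentation p := MorphismProperty.of_isPullback sq.flip inferInstance
  have hql : LocallyOfFinitePresentation q := MorphismProperty.of_isPullback sq inferInstance
  have hPp : IsProper (P ↘ Spec (CommRingCat.of k)) := by rw [← hp]; infer_instance
  have : IsNoetherian X := isNoetherian_of_proper k X
  have : IsNoetherian P := isNoetherian_of_proper k P
  let e := sq.isoPullback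
  have hQint : IsIntegral (pullback (X ↘ Spec (CommRingCat.of k)) (X ↘ Spec (CommRingCat.of k))) :=
    S1582.result k X X (X ↘ Spec (CommRingCat.of k)) (X ↘ Spec (CommRingCat.of k))
  have hPint : IsIntegral P := IsIntegral.of_isIso e.inv
  have hPdim : topologicalKrullDim P ≤ (2 + 2 : ℕ) := by
    rw [S1464.topologicalKrullDim_eq_of_iso e, K106.Dim.topologicalKrullDim_pullback_eq_add, hdim]
    exact le_of_eq (by norm_cast)
  have hPdim4 : topologicalKrullDim P ≤ (4 : ℕ) := hPdim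
  -- the inverse of `L`
  obtain ⟨M, hM, ⟨eM⟩⟩ := Grpsch.PicGrp.exists_inverse hL.1
  have hML : mc M * mc L = 1 := by rw [mul_comm, ← mc_tensor, mc_eq eM, mc_one]
  have hpull : ∀ t : P ⟶ X, mc ((Scheme.Modules.pullback t).obj M) * mc ((Scheme.Modules.pullback t).obj L) = 1 := by
    intro t
    obtain ⟨e1⟩ := Ega3B.PullTensor.nonempty_pullUnitIso t
    have h1 : mc ((Scheme.Modules.pullback t).obj (CohB1.tensorMod L M)) = 1 := by
      rw [mc_eq ((Scheme.Modules.pullback t).mapIso eM), mc_eq e1, mc_one]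
    rw [mul_comm, ← mc_tensor, ← mc_eq (Ega3B.PullTensor.pullTensorIso t hL.1 hM), h1]
  have hh : mc H = mc ((Scheme.Modules.pullback p).obj M) * mc ((Scheme.Modules.pullback q).obj M) := by
    have h1 := hpull p
    have h2 := hpull q
    calc mc H = mc H * ((mc ((Scheme.Modules.pullback p).obj M) * mc ((Scheme.Modules.pullback p).obj L)) *
          (mc ((Scheme.Modules.pullback q).obj M) * mc ((Scheme.Modules.pullback q).obj L))) := by
            rw [h1, h2, mul_one, mul_one]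
      _ = (mc H * (mc ((Scheme.Modules.pullback p).obj L) * mc ((Scheme.Modules.pullback q).obj L))) *
          (mc ((Scheme.Modules.pullback p).obj M) * mc ((Scheme.Modules.pullback q).obj M)) := by
            simp only [mul_assoc, mul_left_comm, mul_comm]
      _ = _ := by rw [hH, one_mul]
  -- the point
  have hpo : IsOpenMap p := p.isOpenMap
  have hqo : IsOpenMap q := q.isOpenMap
  obtain ⟨U, hU, hUφ⟩ := NonZero.exists_open hG (PerfB.FlatPull.isFinLocFree_pullback p hFl) φ hφ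
  obtain ⟨σ, hσ, ⟨y0, hy0⟩, ⟨y1, hy1⟩⟩ := exists_point k sq hpo hqo U hU
  have hφ0 := hUφ (slice0 k sq hσ) y0 hy0
  have hφ1 := hUφ (slice0 k sq.flip hσ) y1 hy1
  set i0 := slice0 k sq hσ with hi0
  set i1 := slice0 k sq.flip hσ with hi1
  have H0 := isPullback_slice0 k sq hσ
  have hi0p : i0 ≫ p = (X ↘ Spec (CommRingCat.of k)) ≫ σ := slice0_p k sq hσ
  have hi0q : i0 ≫ q = 𝟙 X := slice0_q k sq hσ
  have hi1p : i1 ≫ p = 𝟙 X := slice0_q k sq.flip hσ
  have hi1q : i1 ≫ q = (X ↘ Spec (CommRingCat.of k)) ≫ σ := slice0_p k sq.flip hσ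
  have hi : i0 ≫ s = i1 := by
    apply sq.hom_ext
    · rw [Category.assoc, hsp, hi0q, hi1p]
    · rw [Category.assoc, hsq, hi0p, hi1q]
  obtain ⟨esw⟩ := esw
  have hmc1 : mc ((Scheme.Modules.pullback i1).obj G) = mc ((Scheme.Modules.pullback i0).obj G) := by
    rw [← mc_pull_comp i0 s i1 hi, mc_pull_congr i0 (mc_eq esw)]
  let Gs := (Scheme.Modules.pullback i0).obj G
  have hGs : PicF.IsInvertible Gs := CycB.C1Pull.isInvertible_pullback i0 hG
  obtain ⟨e1⟩ := (mc_eq_iff _ _).1 hmc1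
  -- normality
  have hnorm : ∀ x : X, IsIntegrallyClosed (X.presheaf.stalk x) :=
    isIntegrallyClosed_of_regular fun x => S1535.result k X x
  -- the map to `F`
  have hFp : mc ((Scheme.Modules.pullback i1).obj ((Scheme.Modules.pullback p).obj F)) = mc F := by
    rw [mc_pull_comp i1 p (𝟙 X) hi1p, mc_pull_id]
  obtain ⟨e2⟩ := (mc_eq_iff _ _).1 hFp
  let β1 : Gs ⟶ F := e1.inv ≫ (Scheme.Modules.pullback i1).map φ ≫ e2.hom
  have hβ1 : β1 ≠ 0 := by
    intro h
    apply hφ1
    have h1 : (Scheme.Modules.pullback i1).map φ ≫ e2.hom = 0 := by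
      rw [← cancel_epi e1.inv, Limits.comp_zero]
      exact h
    rw [← cancel_mono e2.hom, h1, Limits.zero_comp]
  -- the map to `O`
  obtain ⟨W, hxW, ⟨eW⟩⟩ := hF (σ (IsLocalRing.closedPoint k))
  have hrange : Set.range ((X ↘ Spec (CommRingCat.of k)) ≫ σ) ⊆ W := by
    rintro _ ⟨z, rfl⟩
    have : (X ↘ Spec (CommRingCat.of k)) z = IsLocalRing.closedPoint k := Subsingleton.elim _ _
    change σ ((X ↘ Spec (CommRingCat.of k)) z) ∈ W
    rw [this]
    exact hxW
  obtain ⟨e3⟩ := NonZero.pull_triv ((X ↘ Spec (CommRingCat.of k)) ≫ σ) hrange eW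
  have hFf : mc ((Scheme.Modules.pullback i0).obj ((Scheme.Modules.pullback p).obj F)) =
      mc (FlatMod.freeMod X r) := by
    rw [mc_pull_comp i0 p _ hi0p, mc_eq e3]
  obtain ⟨e4⟩ := (mc_eq_iff _ _).1 hFf
  have hβ : (Scheme.Modules.pullback i0).map φ ≫ e4.hom ≠ 0 := by
    intro h
    apply hφ0
    rw [← cancel_mono e4.hom, h, Limits.zero_comp]
  obtain ⟨c, hc⟩ := NonZero.exists_coord _ hβ
  -- slopes
  have hO : PicF.IsInvertible (Coh.structureModule X) := Fdesc.LocGen.isInvertible_structureModule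
  obtain ⟨s1, s1'⟩ := slope_sub k hL hn hnorm hGs hF hst β1 hβ1
  obtain ⟨s0, s0'⟩ := slope_inv k hL hn hnorm hGs hO _ hc
  have hα := alpha_O_pos k hL hn
  -- numbers
  have hr0 : r ≠ 0 := by
    intro h
    refine hst.2.1 (isZero_of_rk hFc (isTorsionFree_of_isFinLocFree hFl) ?_)
    rw [rk_of_rank hF, h]
  have T1 := triple k hn hL hM hML hp H0 hi0q hsp hsq hq hG (mc_eq esw) _ hh
  have hOP : PicF.IsInvertible (Coh.structureModule P) := Fdesc.LocGen.isInvertible_structureModule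
  obtain ⟨uS⟩ := Ega3B.PullTensor.nonempty_pullUnitIso s
  obtain ⟨u0⟩ := Ega3B.PullTensor.nonempty_pullUnitIso i0
  have T0 := triple k hn hL hM hML hp H0 hi0q hsp hsq hq hOP (mc_eq uS) _ hh
  have hO0 : Coh.IsCoh ((Scheme.Modules.pullback i0).obj (Coh.structureModule P)) :=
    isCoh_of_isInvertible (CycB.C1Pull.isInvertible_pullback i0 hOP)
  rw [← hp_iso k hL.1 hO0 u0] at T0
  have hOc : Coh.IsCoh (Coh.structureModule X) := isCoh_structureModule
  have K : ∀ j : ℕ, (eul k P (mc H ^ j * mc ((Scheme.Modules.pullback p).obj F)) : ℚ) =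
      eul k X (mc F * mc M ^ j) * eul k X (mc (Coh.structureModule X) * mc M ^ j) := by
    intro j
    have hA : Coh.IsCoh (CohB1.tensorMod F (CohB1.tensorPow M j)) :=
      Fga.TwistCoh.isCoh_tensor hFc (Fdesc.LocGen.isInvertible_tensorPow hM j)
    have h1 := eul_kunneth k (d := 2) hn.le sq hp hPdim hA hM j
    rw [mc_pull_twist p F hM, mc_tensor, mc_tensorPow] at h1
    rw [mc_one, one_mul, ← Int.cast_mul, ← h1, hh, mul_pow, mul_comm, mul_assoc]
  have K0 := K 0
  have K1 := K 1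
  have K2 := K 2
  have K3 := K 3
  rw [eul_poly k hn hL hM hML hFc, eul_poly k hn hL hM hML hOc, alpha_rank k hL hn hF hFc] at K0 K1 K2 K3
  rw [pow_zero, one_mul] at K0
  rw [pow_one] at K1
  have key : ((r : ℤ) * (FGA.intNum k P 4 (fun _ : Fin 3 => H) G -
        FGA.intNum k P 4 (fun _ : Fin 3 => H) (Coh.structureModule _)) : ℚ) <
      FGA.intNum k P 4 (fun _ : Fin 3 => H) ((Scheme.Modules.pullback p).obj F) -
        r * FGA.intNum k P 4 (fun _ : Fin 3 => H) (Coh.structureModule _) := by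
    rw [intNum_three k P hPdim4, intNum_three k P hPdim4, intNum_three k P hPdim4]
    push_cast
    rw [T1, T0, K0, K1, K2, K3]
    push_cast
    set A := alpha 2 (K848.HB.hp k L (Coh.structureModule X)) with hA
    set BG := alpha 1 (K848.HB.hp k L Gs) with hBG
    set BO := alpha 1 (K848.HB.hp k L (Coh.structureModule X)) with hBO
    set BF := alpha 1 (K848.HB.hp k L F) with hBF
    have hr : (0 : ℚ) < r := by exact_mod_cast Nat.pos_of_ne_zero hr0
    have fin : 2 * (r : ℚ) * (BG - BO) < BF - r * BO := by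
      rcases lt_or_eq_of_le s0 with h | h
      · nlinarith
      · rcases lt_or_eq_of_le s1 with h' | h'
        · rw [h] at h'
          rw [h]
          linarith
        · exfalso
          obtain ⟨-, ⟨a⟩⟩ := s1' h'.ge
          obtain ⟨b⟩ := s0' h.ge
          exact hFO.false (a.symm ≪≫ b)
    nlinarith
  exact_mod_cast key

end Main

open K992.FibPow in
/-- **The slope inequality on `X × X`** (J10). -/
theorem deg_lt (k : Type u) [Field k] [IsAlgClosed k] (X : Scheme.{u}) [X.Over (Spec (CommRingCat.of k))]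
    [AlgebraicGeometry.IsIntegral X] [Smooth (X ↘ Spec (CommRingCat.of k))] [IsProper (X ↘ Spec (CommRingCat.of k))]
    (hdim : topologicalKrullDim X = 2) (Hl : X.Modules) (hHl : CohB1.IsAmple Hl) (F : X.Modules)
    (r : ℕ) (hr : FlatMod.IsFinLocFreeOfRank r F) (hFO : IsEmpty (F ≅ Coh.structureModule X))
    (hFst : ShStab.IsMuStable k X Hl F 2)
    [(SymProd.fibPow (X ↘ Spec (CommRingCat.of k)) 2).Over (Spec (CommRingCat.of k))]
    (hover : ((SymProd.fibPow (X ↘ Spec (CommRingCat.of k)) 2) ↘ Spec (CommRingCat.of k)) = base (X ↘ Spec (CommRingCat.of k)) 2)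
    (𝒢 : (SymProd.fibPow (X ↘ Spec (CommRingCat.of k)) 2).Modules) (h𝒢 : PicF.IsInvertible 𝒢)
    (esw : (Scheme.Modules.pullback (SymProd.permHom (X ↘ Spec (CommRingCat.of k)) 2 (Equiv.swap 0 1))).obj 𝒢 ≅ 𝒢)
    (φ : 𝒢 ⟶ (Scheme.Modules.pullback (pr (X ↘ Spec (CommRingCat.of k)) (0 : Fin 2))).obj F) (hφ : φ ≠ 0)
    (H'' : (SymProd.fibPow (X ↘ Spec (CommRingCat.of k)) 2).Modules)
    (e'' : ClSub.IsInverseOf H'' (TautSh.boxPow (X ↘ Spec (CommRingCat.of k)) 2 Hl)) :
    (r : ℤ) * (FGA.intNum k (SymProd.fibPow (X ↘ Spec (CommRingCat.of k)) 2) 4 (fun _ : Fin 3 => H'') 𝒢 -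
        FGA.intNum k (SymProd.fibPow (X ↘ Spec (CommRingCat.of k)) 2) 4 (fun _ : Fin 3 => H'') (Coh.structureModule _)) <
      FGA.intNum k (SymProd.fibPow (X ↘ Spec (CommRingCat.of k)) 2) 4 (fun _ : Fin 3 => H'')
        ((Scheme.Modules.pullback (pr (X ↘ Spec (CommRingCat.of k)) (0 : Fin 2))).obj F) -
      r * FGA.intNum k (SymProd.fibPow (X ↘ Spec (CommRingCat.of k)) 2) 4 (fun _ : Fin 3 => H'') (Coh.structureModule _) := by
  have hsw : IsIso (SymProd.permHom (X ↘ Spec (CommRingCat.of k)) 2 (Equiv.swap 0 1)) := by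
    refine ⟨SymProd.permHom (X ↘ Spec (CommRingCat.of k)) 2 (Equiv.swap 0 1), ?_, ?_⟩ <;>
    · refine (isPullback_two (X ↘ Spec (CommRingCat.of k))).hom_ext ?_ ?_
      · rw [Category.assoc, permHom_swap_pr0, permHom_swap_pr1, Category.id_comp]
      · rw [Category.assoc, permHom_swap_pr1, permHom_swap_pr0, Category.id_comp]
  refine deg_lt_square k hdim (isPullback_two (X ↘ Spec (CommRingCat.of k)))
    ((pr_comp (X ↘ Spec (CommRingCat.of k)) (0 : Fin 2)).trans hover.symm)
    (permHom_swap_pr0 (X ↘ Spec (CommRingCat.of k))) (permHom_swap_pr1 (X ↘ Spec (CommRingCat.of k))) hHl hr hFO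
    hFst h𝒢 ⟨esw⟩ φ hφ ?_
  obtain ⟨e⟩ := e''
  rw [← mc_boxPow_two, ← mc_tensor, mc_eq e, mc_one]

end K254.DegLt
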