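import Groth.Agent.TautSh.K254.Slice
import Groth.Agent.ShStab.K848.Pos
import Groth.Agent.IntTh.K711.ProdNum
import Groth.Agent.FBase.K106.Dim
import Groth.Agent.CohqB.PullTwist471

/-!
# Euler characteristics on classes of modules; the triple self-intersection symbol
-/

set_option autoImplicit false
universe u
open CategoryTheory CategoryTheory.Limits AlgebraicGeometry Opposite TopologicalSpace Polynomial

namespace K254.Num

open Groth.Agent Groth.Agent.Fga Groth.Agent.Fga.PicMon Groth.Agent.Fga.AltSum Groth.Agent.Fga.SnapperTwist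
open K711.ProdNum K848.HB K848.Poly StabCat K254.Slice

section Eul

variable (k : Type u) [Field k] (X : Scheme.{u}) [X.Over (Spec (CommRingCat.of k))]

/-- the Euler characteristic on classes of modules -/
noncomputable def eul : MC X → ℤ :=
  onCl (Curv2.euler k X) fun _ _ ⟨e⟩ => VarietyA.EulerAdd.euler_congr k e

theorem eul_mc (M : X.Modules) : eul k X (mc M) = Curv2.euler k X M := rfl

theorem chiCl_eq_eul [IsNoetherian X] {d : ℕ} (hd : topologicalKrullDim X ≤ d) (F : X.Modules) (c : MC X) :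
    chiCl k X d F c = eul k X (c * mc F) := by
  induction c using MC.ind with | h L => ?_
  rw [chiCl_mc, EulerLEAdd.eulerCharLE_eq_euler k X d hd, ← mc_tensor, eul_mc]

theorem dSum_const_succ {G : Type*} [CommMonoid G] (φ : G → ℤ) (r : ℕ) (g : G) :
    dSum φ (fun _ : Fin (r + 1) => g) = dSum φ (fun _ : Fin r => g) - dSum (fun x => φ (g * x)) (fun _ : Fin r => g) := by
  rw [← dSum_cons]
  congr 1
  funext i
  cases i using Fin.cases <;> rfl

theorem dSum_const_three {G : Type*} [CommMonoid G] (φ : G → ℤ) (g : G) :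
    dSum φ (fun _ : Fin 3 => g) = φ 1 - 3 * φ g + 3 * φ (g ^ 2) - φ (g ^ 3) := by
  simp only [dSum_const_succ, dSum_zero, mul_one]
  have h2 : g ^ 2 = g * g := pow_two g
  have h3 : g ^ 3 = g * (g * g) := by rw [pow_succ', pow_two]
  rw [h2, h3]
  ring

/-- the triple symbol -/
theorem intNum_three [IsNoetherian X] {d : ℕ} (hd : topologicalKrullDim X ≤ d) (H V : X.Modules) :
    FGA.intNum k X d (fun _ : Fin 3 => H) V =
      eul k X (mc V) - 3 * eul k X (mc H * mc V) + 3 * eul k X (mc H ^ 2 * mc V) - eul k X (mc H ^ 3 * mc V) := by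
  rw [intNum_eq_dSum, dSum_const_three]
  simp only [chiCl_eq_eul k X hd, one_mul]

end Eul

section Poly

variable (k : Type u) [Field k] {X : Scheme.{u}} [X.Over (Spec (CommRingCat.of k))]
  [IsProper (X ↘ Spec (CommRingCat.of k))]

/-- Euler characteristics of negative twists through the Hilbert polynomial -/
theorem eul_twist {L : X.Modules} (hL : PicF.IsInvertible L) {M : X.Modules} (hM : PicF.IsInvertible M)
    (hML : mc M * mc L = 1) {F : X.Modules} (hF : Coh.IsCoh F) (j : ℕ) :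
    (eul k X (mc F * mc M ^ j) : ℚ) = (hp k L F).eval (-(j : ℚ)) := by
  have hT := Fdesc.LocGen.isInvertible_tensorPow hM j
  have hG : Coh.IsCoh (CohB1.tensorMod (CohB1.tensorPow M j) F) := isCoh_tensor' hT hF
  have e1 : mc F * mc M ^ j = mc (CohB1.tensorMod (CohB1.tensorPow M j) F) := by
    rw [mc_tensor, mc_tensorPow, mul_comm]
  have e2 : mc F = mc (CohB1.tensorMod (CohB1.tensorPow M j) F) * mc L ^ j := by
    rw [← e1, mul_assoc, ← mul_pow, hML, one_pow, mul_one]
  rw [e1, eul_mc, euler_eq_eval k hL hG, hp_of_mc' k hL hF hG j e2, eval_shift, zero_add]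

/-- the Hilbert polynomial in dimension two -/
theorem eval_hp_two {L : X.Modules} (hL : PicF.IsInvertible L) (hd : topologicalKrullDim X ≤ (2 : ℕ))
    {F : X.Modules} (hF : Coh.IsCoh F) (x : ℚ) :
    (hp k L F).eval x = alpha 0 (hp k L F) + alpha 1 (hp k L F) * x + alpha 2 (hp k L F) / 2 * x ^ 2 := by
  have h := natDegree_hp_le k hL hF (d := 2) ((topologicalKrullDim_subspace_le X _).trans hd)
  rw [Polynomial.eval_eq_sum_range' (Nat.lt_succ_of_le h)]
  simp [Finset.sum_range_succ, alpha]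

end Poly

section Arith

theorem arith4 (N : ℕ → ℕ → ℚ) (s : ℕ → ℚ) (hsym : ∀ a b, N a b = N b a)
    (hN : ∀ a b, N a b - 2 * N (a + 1) b + N (a + 2) b = s b) :
    N 0 0 - 3 * N 1 1 + 3 * N 2 2 - N 3 3 = 3 * (s 0 - s 1 + s 2 - s 3) := by
  have h00 := hN 0 0
  have h10 := hN 1 0
  have h01 := hN 0 1
  have h11 := hN 1 1
  have h02 := hN 0 2
  have h12 := hN 1 2
  have h03 := hN 0 3
  have h13 := hN 1 3
  simp only [Nat.reduceAdd] at h00 h10 h01 h11 h02 h12 h03 h13
  have e01 := hsym 0 1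
  have e02 := hsym 0 2
  have e03 := hsym 0 3
  have e12 := hsym 1 2
  have e13 := hsym 1 3
  have e23 := hsym 2 3
  linarith

end Arith

section Pull

variable {X Y : Scheme.{u}}

theorem mc_pull_twist (f : X ⟶ Y) (M : Y.Modules) {L : Y.Modules} (hL : PicF.IsInvertible L) (n : ℕ) :
    mc ((Scheme.Modules.pullback f).obj (CohB1.tensorMod M (CohB1.tensorPow L n))) =
      mc ((Scheme.Modules.pullback f).obj M) * mc ((Scheme.Modules.pullback f).obj L) ^ n := by
  obtain ⟨e⟩ := CohqB.PullTwist471.nonempty_pull_twist f M hL n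
  rw [mc_eq e, mc_tensor, mc_tensorPow]

theorem mc_pull_pow (f : X ⟶ Y) {L : Y.Modules} (hL : PicF.IsInvertible L) (n : ℕ) :
    mc ((Scheme.Modules.pullback f).obj (CohB1.tensorPow L n)) = mc ((Scheme.Modules.pullback f).obj L) ^ n := by
  obtain ⟨e⟩ := Ega3B.PullTensor.nonempty_pullPowIso f hL n
  rw [mc_eq e, mc_tensorPow]

theorem mc_pull_comp {Z : Scheme.{u}} (f : X ⟶ Y) (g : Y ⟶ Z) (h : X ⟶ Z) (w : f ≫ g = h) (M : Z.Modules) :
    mc ((Scheme.Modules.pullback f).obj ((Scheme.Modules.pullback g).obj M)) =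
      mc ((Scheme.Modules.pullback h).obj M) := by
  subst w
  exact mc_eq ((Scheme.Modules.pullbackComp f g).app M)

theorem mc_pull_id (M : X.Modules) : mc ((Scheme.Modules.pullback (𝟙 X)).obj M) = mc M :=
  mc_eq ((Scheme.Modules.pullbackId X).app M)

end Pull

section Iso

variable (k : Type u) [Field k] {P Q : Scheme.{u}} [P.Over (Spec (CommRingCat.of k))]
  [Q.Over (Spec (CommRingCat.of k))] [IsProper (Q ↘ Spec (CommRingCat.of k))]

/-- invariance of Euler characteristics under isomorphisms of `k`-schemes -/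
theorem euler_pullback_iso (s : P ⟶ Q) [IsIso s]
    (hs : s ≫ (Q ↘ Spec (CommRingCat.of k)) = P ↘ Spec (CommRingCat.of k)) {V : Q.Modules} (hV : Coh.IsQCoh V) :
    Curv2.euler k P ((Scheme.Modules.pullback s).obj V) = Curv2.euler k Q V := by
  have H1 : IsPullback s (P ↘ Spec (CommRingCat.of k)) (Q ↘ Spec (CommRingCat.of k)) (𝟙 _) :=
    IsPullback.of_horiz_isIso ⟨by rw [hs, Category.comp_id]⟩
  have H2 : IsPullback (𝟙 Q) (Q ↘ Spec (CommRingCat.of k)) (Q ↘ Spec (CommRingCat.of k)) (𝟙 _) :=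
    IsPullback.of_horiz_isIso ⟨by simp⟩
  have h1 := K846.ChiPt.euler_pt (Q ↘ Spec (CommRingCat.of k)) (𝟙 _) (IsLocalRing.closedPoint k) s
    (P ↘ Spec (CommRingCat.of k)) H1 V hV
  have h2 := K846.ChiPt.euler_pt (Q ↘ Spec (CommRingCat.of k)) (𝟙 _) (IsLocalRing.closedPoint k) (𝟙 Q)
    (Q ↘ Spec (CommRingCat.of k)) H2 V hV
  have h3 : Curv2.euler k Q ((Scheme.Modules.pullback (𝟙 Q)).obj V) = Curv2.euler k Q V :=
    VarietyA.EulerAdd.euler_congr k ((Scheme.Modules.pullbackId Q).app V)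
  exact h1.trans (h2.symm.trans h3)

end Iso

section Square

variable (k : Type u) [Field k] {X P : Scheme.{u}} [X.Over (Spec (CommRingCat.of k))]
  [P.Over (Spec (CommRingCat.of k))] [IsProper (X ↘ Spec (CommRingCat.of k))]
  [IsProper (P ↘ Spec (CommRingCat.of k))]

/-- Künneth formula on a square isomorphic to the product -/
theorem eul_kunneth {d : ℕ} (hd : topologicalKrullDim X ≤ d) {p q : P ⟶ X}
    (sq : IsPullback p q (X ↘ Spec (CommRingCat.of k)) (X ↘ Spec (CommRingCat.of k)))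
    (hp : p ≫ (X ↘ Spec (CommRingCat.of k)) = P ↘ Spec (CommRingCat.of k))
    (hP : topologicalKrullDim P ≤ (d + d : ℕ))
    {A M : X.Modules} (hA : Coh.IsCoh A) (hM : PicF.IsInvertible M) (j : ℕ) :
    eul k P (mc ((Scheme.Modules.pullback p).obj A) * mc ((Scheme.Modules.pullback q).obj M) ^ j) =
      eul k X (mc A) * eul k X (mc M ^ j) := by
  let π₁ := pullback.fst (X ↘ Spec (CommRingCat.of k)) (X ↘ Spec (CommRingCat.of k))
  let π₂ := pullback.snd (X ↘ Spec (CommRingCat.of k)) (X ↘ Spec (CommRingCat.of k))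
  let iO : (pullback (X ↘ Spec (CommRingCat.of k)) (X ↘ Spec (CommRingCat.of k))).Over (Spec (CommRingCat.of k)) :=
    ⟨π₁ ≫ (X ↘ Spec (CommRingCat.of k))⟩
  have : IsNoetherian X := isNoetherian_of_proper k X
  have : IsNoetherian P := isNoetherian_of_proper k P
  have hpr : IsProper ((pullback (X ↘ Spec (CommRingCat.of k)) (X ↘ Spec (CommRingCat.of k))) ↘
      Spec (CommRingCat.of k)) := inferInstanceAs (IsProper (π₁ ≫ (X ↘ Spec (CommRingCat.of k))))
  have : IsNoetherian (pullback (X ↘ Spec (CommRingCat.of k)) (X ↘ Spec (CommRingCat.of k)) : Scheme.{u}) :=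
    isNoetherian_of_proper k _
  let e := sq.isoPullback
  have e1 : e.hom ≫ π₁ = p := sq.isoPullback_hom_fst
  have e2 : e.hom ≫ π₂ = q := sq.isoPullback_hom_snd
  have hdQ : topologicalKrullDim (pullback (X ↘ Spec (CommRingCat.of k)) (X ↘ Spec (CommRingCat.of k)) : Scheme.{u}) ≤
      (d + d : ℕ) := by
    rw [← Groth.Agent.S1464.topologicalKrullDim_eq_of_iso e]
    exact hP
  have hB : PicF.IsInvertible (CohB1.tensorPow M j) := Fdesc.LocGen.isInvertible_tensorPow hM j
  have hBc : Coh.IsCoh (CohB1.tensorPow M j) := K848.Rank.isCoh_of_isInvertible hB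
  have h1 := K711.KunChi.chi_kunneth (k := k) d d hd hd hA hBc
  have h2 := EulerLEAdd.eulerCharLE_eq_euler k X d hd A
  have h3 := EulerLEAdd.eulerCharLE_eq_euler k X d hd (CohB1.tensorPow M j)
  have h4 := EulerLEAdd.eulerCharLE_eq_euler k (pullback (X ↘ Spec (CommRingCat.of k)) (X ↘ Spec (CommRingCat.of k)))
    (d + d) hdQ (CohB1.tensorMod ((Scheme.Modules.pullback π₁).obj A)
      ((Scheme.Modules.pullback π₂).obj (CohB1.tensorPow M j)))
  let V := CohB1.tensorMod ((Scheme.Modules.pullback π₁).obj A)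
      ((Scheme.Modules.pullback π₂).obj (CohB1.tensorPow M j))
  have hV : Coh.IsCoh V := Fga.TwistCoh.isCoh_tensor (FormalA.PullbackQC.isCoh_pullback _ _ hA)
    (CycB.C1Pull.isInvertible_pullback π₂ hB)
  have h5 := euler_pullback_iso k e.hom (by rw [← hp, ← e1, Category.assoc]; rfl) hV.1
  have h6 : mc ((Scheme.Modules.pullback e.hom).obj V) =
      mc ((Scheme.Modules.pullback p).obj A) * mc ((Scheme.Modules.pullback q).obj M) ^ j := by
    have h7 : mc V = mc (CohB1.tensorMod ((Scheme.Modules.pullback π₁).obj A)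
        (CohB1.tensorPow ((Scheme.Modules.pullback π₂).obj M) j)) := by
      rw [mc_tensor, mc_tensor, mc_tensorPow, mc_pull_pow π₂ hM j]
    obtain ⟨e7⟩ := (mc_eq_iff _ _).1 h7
    rw [mc_eq ((Scheme.Modules.pullback e.hom).mapIso e7),
      mc_pull_twist e.hom _ (CycB.C1Pull.isInvertible_pullback π₂ hM) j, mc_pull_comp e.hom π₁ p e1,
      mc_pull_comp e.hom π₂ q e2]
  rw [← h6, eul_mc, h5, ← h4, eul_mc, ← mc_tensorPow, eul_mc, ← h2, ← h3]
  exact h1

end Square

end K254.Num
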