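import Groth.Agent.TautSh.K254.SnapperBase
import Groth.Agent.ShStab.K846.ChiPt
import Groth.Agent.ShStab.K848.HB
import Groth.Agent.PerfB.FlatPull
import Groth.Agent.Surf.K456.Base
import Groth.Agent.Ega3B.ChiFib
import Groth.Agent.S0017
import Groth.Agent.Vancyc.H769.EulerTwist
import Mathlib.AlgebraicGeometry.AlgClosed.Basic

/-!
# Second differences of Euler characteristics along a flat family

For `p : P ⟶ X` proper and flat over an algebraically closed field, `V` invertible on `P` and `M` invertible on `X`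
(`dim X ≤ 2`, `X` connected), the second differences of `m ↦ χ(P, V ⊗ p^* M^m)` are `χ(P_x, V_x)` times those of
`m ↦ χ(X, M^m)`.
-/

set_option autoImplicit false
universe u
open CategoryTheory CategoryTheory.Limits AlgebraicGeometry Opposite TopologicalSpace

namespace K254.Slice

open Groth.Agent Groth.Agent.Fga Groth.Agent.Fga.ChiBasic Groth.Agent.Fga.SnapperTwist K254.SnapperBase

section Add

variable (k : Type u) [Field k] {X P : Scheme.{u}} [P.Over (Spec (CommRingCat.of k))]
  [IsProper (P ↘ Spec (CommRingCat.of k))] (p : P ⟶ X) [Flat p]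

theorem shortExact_pull {S : ShortComplex X.Modules} (hS : S.ShortExact) :
    (S.map (Scheme.Modules.pullback p)).ShortExact := by
  have := hS.epi_g
  have := hS.mono_f
  exact
    { exact := hS.exact.map_of_epi_of_preservesCokernel (Scheme.Modules.pullback p) hS.epi_g inferInstance
      mono_f := PerfB.FlatPull.mono_pullback_map p S.f
      epi_g := by
        change Epi ((Scheme.Modules.pullback p).map S.g)
        infer_instance }

/-- `T ↦ χ(P, V ⊗ p^* T)` -/
noncomputable def lam (V : P.Modules) (T : X.Modules) : ℤ :=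
  Curv2.euler k P (CohB1.tensorMod V ((Scheme.Modules.pullback p).obj T))

theorem isAdd_lam {V : P.Modules} (hV : PicF.IsInvertible V) : IsAdd (lam k p V) := by
  intro S hS h1 h2 h3
  have h0 : IsAdd (fun F => Curv2.euler k P (CohB1.tensorMod V F)) := isAdd_twist (K848.HB.isAdd_euler k) hV
  have c1 : Coh.IsCoh ((Scheme.Modules.pullback p).obj S.X₁) := FormalA.PullbackQC.isCoh_pullback _ _ h1
  have c2 : Coh.IsCoh ((Scheme.Modules.pullback p).obj S.X₂) := FormalA.PullbackQC.isCoh_pullback _ _ h2
  have c3 : Coh.IsCoh ((Scheme.Modules.pullback p).obj S.X₃) := FormalA.PullbackQC.isCoh_pullback _ _ h3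
  exact h0 (S.map (Scheme.Modules.pullback p)) (shortExact_pull p hS) c1 c2 c3

end Add

section Base

variable (k : Type u) [Field k] {X P : Scheme.{u}} [X.Over (Spec (CommRingCat.of k))]
  [P.Over (Spec (CommRingCat.of k))] [IsProper (X ↘ Spec (CommRingCat.of k))]
  [IsProper (P ↘ Spec (CommRingCat.of k))]

/-- the structure sheaf of a rational point -/
noncomputable def sky (σ : Spec (CommRingCat.of k) ⟶ X) : X.Modules := (Coh.push σ).obj (Coh.structureModule _)

variable {σ : Spec (CommRingCat.of k) ⟶ X} (hσ : σ ≫ (X ↘ Spec (CommRingCat.of k)) = 𝟙 _)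
include hσ

theorem isClosedImmersion_point : IsClosedImmersion σ := by
  have : IsClosedImmersion (σ ≫ (X ↘ Spec (CommRingCat.of k))) := by rw [hσ]; infer_instance
  exact IsClosedImmersion.of_comp σ (X ↘ Spec (CommRingCat.of k))

theorem euler_sky : Curv2.euler k X (sky k σ) = 1 := by
  have := isClosedImmersion_point k hσ
  let _ : (Spec (CommRingCat.of k)).Over (Spec (CommRingCat.of k)) := ⟨𝟙 _⟩
  have h1 := K456.Base.euler_push_unit k σ hσ
  exact h1.trans (Vancyc.H769.EulerTwist.euler_spec k rfl)

omit [IsProper (P ↘ Spec (CommRingCat.of k))] in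
theorem lam_sky (p : P ⟶ X) [IsProper p] (hp : p ≫ (X ↘ Spec (CommRingCat.of k)) = P ↘ Spec (CommRingCat.of k))
    {V : P.Modules} (hV : PicF.IsInvertible V) :
    lam k p V (sky k σ) = PerfAux.eulerChar p V (σ (IsLocalRing.closedPoint k)) := by
  have := isClosedImmersion_point k hσ
  have sq : IsPullback (pullback.fst p σ) (pullback.snd p σ) p σ := IsPullback.of_hasPullback _ _
  have hq : Coh.IsQCoh (Coh.structureModule (Spec (CommRingCat.of k))) :=
    (Fdesc.StructMod.isCoh_structureModule _).1
  obtain ⟨e1⟩ := S0017.result σ p (pullback.snd p σ) (pullback.fst p σ) sq.flip (Coh.structureModule _)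
  obtain ⟨e2⟩ := Ega3B.PullTensor.nonempty_pullUnitIso (pullback.snd p σ)
  have e3 : (Scheme.Modules.pullback p).obj (sky k σ) ≅
      (Scheme.Modules.pushforward (pullback.fst p σ)).obj (Coh.structureModule _) :=
    e1 ≪≫ (Scheme.Modules.pushforward (pullback.fst p σ)).mapIso e2
  let _ : (pullback p σ).Over (Spec (CommRingCat.of k)) := ⟨pullback.snd p σ⟩
  have hi : pullback.fst p σ ≫ (P ↘ Spec (CommRingCat.of k)) = (pullback p σ) ↘ Spec (CommRingCat.of k) := by
    rw [← hp, pullback.condition_assoc, hσ, Category.comp_id]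
    rfl
  unfold lam
  rw [VarietyA.EulerAdd.euler_congr k (Ega2.Tens.mapTIso (Iso.refl V) e3),
    K456.Base.euler_push_tensor k (pullback.fst p σ) hi hV]
  exact K846.ChiPt.euler_pt p σ (IsLocalRing.closedPoint k) (pullback.fst p σ) (pullback.snd p σ) sq V
    (K848.Rank.isCoh_of_isInvertible hV).1

end Base

section Zero

variable (k : Type u) [Field k] [IsAlgClosed k] {X P : Scheme.{u}} [X.Over (Spec (CommRingCat.of k))]
  [P.Over (Spec (CommRingCat.of k))] [IsProper (X ↘ Spec (CommRingCat.of k))]
  [IsProper (P ↘ Spec (CommRingCat.of k))] (p : P ⟶ X) [IsProper p] [Flat p]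
  (hp : p ≫ (X ↘ Spec (CommRingCat.of k)) = P ↘ Spec (CommRingCat.of k))

include hp

theorem lam_eq_of_dim_zero {V : P.Modules} (hV : PicF.IsInvertible V) (c : ℤ)
    (hc : ∀ x : X, PerfAux.eulerChar p V x = c) (F : X.Modules) (hF : Coh.IsCoh F)
    (hd : topologicalKrullDim (CohB1.support F) < ((1 : ℕ) : WithBot ℕ∞)) :
    lam k p V F - c * Curv2.euler k X F = 0 := by
  have := isNoetherian_of_proper k X
  have hd0 : topologicalKrullDim (CohB1.support F) ≤ 0 :=
    Fga.IntNum0.withBot_le_of_lt_succ (by exact_mod_cast hd)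
  refine Ega3B.Devissage.devissage (CohB1.support F) (Ega3B.Devissage.isClosed_support hF)
    (fun M => lam k p V M - c * Curv2.euler k X M = 0) ?_ ?_ ?_ F hF subset_rfl
  · intro M hM
    rw [chi_isZero (isAdd_lam k p hV) hM, chi_isZero (K848.HB.isAdd_euler k) hM, mul_zero, sub_zero]
  · intro S hS h1 h2 h3 _
    have e1 := isAdd_lam k p hV S hS h1 h2 h3
    have e2 := K848.HB.isAdd_euler k S hS h1 h2 h3
    dsimp only
    rw [e1, e2]
    refine ⟨fun ha hb => by linear_combination hb - ha, fun ha hb => by linear_combination ha + hb,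
      fun ha hb => by linear_combination ha - hb⟩
  · intro y hy
    have hy0 := VarietyA.GlobGen.isClosed_singleton_of_mem_support F hF.2 hd0 hy
    let σ := pointOfClosedPoint (X ↘ Spec (CommRingCat.of k)) y hy0
    have hσ : σ ≫ (X ↘ Spec (CommRingCat.of k)) = 𝟙 _ := pointOfClosedPoint_comp _ _ _
    have hσy : ∀ a, σ a = y := fun a => pointOfClosedPoint_apply _ _ _ a
    have := isClosedImmersion_point k hσ
    refine ⟨sky k σ, S0019.result σ _ (Fdesc.StructMod.isCoh_structureModule _), ?_, ?_, ?_⟩
    · rw [lam_sky k hσ p hp hV, euler_sky k hσ, hc, mul_one, sub_self]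
    · refine (CohqB.DevSimple.support_push_subset_range σ _).trans ?_
      rintro _ ⟨a, rfl⟩
      rw [hσy a]
      exact subset_closure rfl
    · have : Nonempty (⊤ : (Spec (CommRingCat.of k)).Opens) := ⟨⟨genericPoint _, trivial⟩⟩
      have h := CohqB.DevSimple.isSimpleModule_stalk_push σ (Coh.structureModule _) ⊤
        ⟨Scheme.Modules.restrictUnitIso _⟩
      rw [hσy] at h
      exact h

/-- **Second differences along the family.** -/
theorem second_diff_lam [PreconnectedSpace X] [Nonempty X] {V : P.Modules} (hV : PicF.IsInvertible V)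
    (x : X) {L : X.Modules} (hL : PicF.IsInvertible L) (hd : topologicalKrullDim X ≤ ((2 : ℕ) : WithBot ℕ∞))
    (F : X.Modules) (hF : Coh.IsCoh F) (m : ℕ) :
    lam k p V (CohB1.tensorMod (CohB1.tensorPow L m) F) -
        2 * lam k p V (CohB1.tensorMod (CohB1.tensorPow L (m + 1)) F) +
        lam k p V (CohB1.tensorMod (CohB1.tensorPow L (m + 2)) F) =
      PerfAux.eulerChar p V x * (Curv2.euler k X (CohB1.tensorMod (CohB1.tensorPow L m) F) -
        2 * Curv2.euler k X (CohB1.tensorMod (CohB1.tensorPow L (m + 1)) F) +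
        Curv2.euler k X (CohB1.tensorMod (CohB1.tensorPow L (m + 2)) F)) := by
  have := isNoetherian_of_proper k X
  have : LocallyOfFinitePresentation p := inferInstance
  have h1 : IsLocallyConstant (fun s : X => PerfAux.eulerChar p V s) :=
    S1026.result p V (Ega3B.ChiFib.isFP_of_isInvertible hV) (Ega3B.ChiFib.isFlatOver_of_isInvertible p hV)
  have hc : ∀ y : X, PerfAux.eulerChar p V y = PerfAux.eulerChar p V x := fun y =>
    h1.apply_eq_of_preconnectedSpace y x
  have h2 : IsAdd (fun T => lam k p V T - PerfAux.eulerChar p V x * Curv2.euler k X T) := by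
    intro S hS a b c
    have e1 := isAdd_lam k p hV S hS a b c
    have e2 := K848.HB.isAdd_euler k S hS a b c
    dsimp only
    rw [e1, e2]
    ring
  have h3 := second_diff h2 (lam_eq_of_dim_zero k p hp hV _ hc) hL F hF
    ((topologicalKrullDim_subspace_le X _).trans hd) m
  linear_combination h3

end Zero

end K254.Slice
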