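import Groth.Agent.ShStab.K848.Hull2
import Groth.Agent.S1535

/-!
# Slopes of invertible submodules of a slope-stable bundle on a surface
-/

set_option autoImplicit false
universe u
open CategoryTheory CategoryTheory.Limits AlgebraicGeometry Opposite TopologicalSpace Polynomial

namespace K254.SlopeX

open ShStab StabCat K848.Poly K848.HB K848.TF K848.Rank K848.Hull K848.Stab K848.Hull2 K848.Hartogs
open Groth.Agent.CohqB.DevSupport Groth.Agent.Sga67.CohBasic Groth.Agent.CycB.StalkExact

theorem rk_of_rank {X : Scheme.{u}} [IsIntegral X] {F : X.Modules} {r : ℕ} (hF : FlatMod.IsFinLocFreeOfRank r F) :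
    rk F = r := by
  obtain ⟨U, hx, ⟨e⟩⟩ := hF (genericPoint X)
  exact (eq_rk_of_triv e hx).symm

section Iso

variable {X : Scheme.{u}} [IsIntegral X] [IsLocallyNoetherian X]

/-- a mono of invertible modules on a normal scheme which is an isomorphism in codimension one is an isomorphism -/
theorem nonempty_iso_of_codim (hn : ∀ x : X, IsIntegrallyClosed (X.presheaf.stalk x)) {F G : X.Modules} (β : G ⟶ F)
    [Mono β] (hG : PicF.IsInvertible G) (hF : PicF.IsInvertible F)
    (h : ∀ x ∈ CohB1.support (cokernel β), (2 : WithBot ℕ∞) ≤ ringKrullDim (X.presheaf.stalk x)) :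
    Nonempty (G ≅ F) := by
  have hGc := isCoh_of_isInvertible hG
  have hFc := isCoh_of_isInvertible hF
  have hb := big_cokOpen hGc hFc β h
  have hbij : ∀ x ∈ cokOpen hGc hFc β, Function.Bijective (stalkLin β x) := bijective_cokOpen hGc hFc β
  obtain ⟨ψ, hψ⟩ := exists_factor hn hb β hbij hGc (isFinLocFree_of_isInvertible hG) (𝟙 G)
  have h2 : ψ ≫ β = 𝟙 F := by
    refine factor_unique hn hb β hbij hFc (isFinLocFree_of_isInvertible hF) ?_
    rw [← Category.assoc, hψ, Category.id_comp, Category.comp_id]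
  exact ⟨⟨β, ψ, hψ, h2⟩⟩

end Iso

section Slope

variable (k : Type u) [Field k] {X : Scheme.{u}} [X.Over (Spec (CommRingCat.of k))]
  [IsProper (X ↘ Spec (CommRingCat.of k))] [IsIntegral X]
  {L : X.Modules} (hL : CohB1.IsAmple L) (hn : topologicalKrullDim X = (2 : ℕ))
  (hnorm : ∀ x : X, IsIntegrallyClosed (X.presheaf.stalk x))

include hL hn

theorem alpha_inv {G : X.Modules} (hG : PicF.IsInvertible G) :
    alpha 2 (hp k L G) = alpha 2 (hp k L (Coh.structureModule X)) := by
  rw [alpha_rk k hL.1 hn (isCoh_of_isInvertible hG), rk_structureModule_of_isInvertible hG, Nat.cast_one, one_mul]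

theorem alpha_rank {F : X.Modules} {r : ℕ} (hF : FlatMod.IsFinLocFreeOfRank r F) (hFc : Coh.IsCoh F) :
    alpha 2 (hp k L F) = r * alpha 2 (hp k L (Coh.structureModule X)) := by
  rw [alpha_rk k hL.1 hn hFc, rk_of_rank hF]

include hnorm

/-- a nonzero map of invertible modules -/
theorem slope_inv {F G : X.Modules} (hG : PicF.IsInvertible G) (hF : PicF.IsInvertible F) (β : G ⟶ F)
    (hβ : β ≠ 0) : alpha 1 (hp k L G) ≤ alpha 1 (hp k L F) ∧
      (alpha 1 (hp k L F) ≤ alpha 1 (hp k L G) → Nonempty (G ≅ F)) := by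
  have := Groth.Agent.Fga.SnapperTwist.isNoetherian_of_proper k X
  have hGc := isCoh_of_isInvertible hG
  have hFc := isCoh_of_isInvertible hF
  have hrk : rk G = rk F := by
    rw [rk_structureModule_of_isInvertible hG, rk_structureModule_of_isInvertible hF]
  have : Mono β := (K848.Extn.eq_zero_or_mono hGc (isTorsionFree_of_isInvertible hG)
    (rk_structureModule_of_isInvertible hG) hFc (isTorsionFree_of_isInvertible hF) β).resolve_left hβ
  exact ⟨alpha_pred_le k hL hn β hGc hFc hrk, fun h =>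
    nonempty_iso_of_codim hnorm β hG hF (codim_of_alpha_pred_eq k hL hn β hGc hFc hrk h)⟩

/-- **Slopes of invertible submodules of a slope-stable bundle.** -/
theorem slope_sub {F G : X.Modules} (hG : PicF.IsInvertible G) {r : ℕ} (hF : FlatMod.IsFinLocFreeOfRank r F)
    (hst : IsMuStable k X L F 2) (β : G ⟶ F) (hβ : β ≠ 0) :
    (r : ℚ) * alpha 1 (hp k L G) ≤ alpha 1 (hp k L F) ∧
      (alpha 1 (hp k L F) ≤ (r : ℚ) * alpha 1 (hp k L G) → r = 1 ∧ Nonempty (G ≅ F)) := by
  have := Groth.Agent.Fga.SnapperTwist.isNoetherian_of_proper k X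
  obtain ⟨hFc, hF0, -, -, hmu⟩ := hst
  have hGc := isCoh_of_isInvertible hG
  have hFl : FlatMod.IsFinLocFree F := fun x => by
    obtain ⟨V, hxV, e⟩ := hF x
    exact ⟨V, r, hxV, e⟩
  have hα := alpha_O_pos k hL hn
  have htf := isTorsionFree_of_isFinLocFree hFl
  have hr0 : r ≠ 0 := by
    intro h
    exact hF0 (isZero_of_rk hFc htf (by rw [rk_of_rank hF, h]))
  rcases Nat.lt_or_ge 1 r with hr | hr
  · have : Mono β := (K848.Extn.eq_zero_or_mono hGc (isTorsionFree_of_isInvertible hG)
      (rk_structureModule_of_isInvertible hG) hFc htf β).resolve_left hβ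
    have h1 : alpha 2 (hp k L G) < alpha 2 (hp k L F) := by
      rw [alpha_inv k hL hn hG, alpha_rank k hL hn hF hFc]
      have : (1 : ℚ) < r := by exact_mod_cast hr
      nlinarith
    have h2 : 0 < alpha 2 (hp k L G) := by rw [alpha_inv k hL hn hG]; exact hα
    have h3 := hmu G β inferInstance hGc _ _ (isHilbPoly_hp k hL.1 hGc) (isHilbPoly_hp k hL.1 hFc) h2 h1
    rw [hatSlope, hatSlope, alpha_inv k hL hn hG, alpha_rank k hL hn hF hFc, div_lt_div_iff₀ hα
      (by positivity)] at h3
    have h4 : (r : ℚ) * alpha 1 (hp k L G) < alpha 1 (hp k L F) := by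
      have h5 : (alpha 1 (hp k L F) - (r : ℚ) * alpha 1 (hp k L G)) *
          alpha 2 (hp k L (Coh.structureModule X)) > 0 := by
        change alpha 1 (hp k L G) * ((r : ℚ) * alpha 2 (hp k L (Coh.structureModule X))) <
          alpha 1 (hp k L F) * alpha 2 (hp k L (Coh.structureModule X)) at h3
        linarith
      have := (pos_iff_pos_of_mul_pos h5).2 hα
      linarith
    exact ⟨h4.le, fun h => absurd h4 (not_lt.2 h)⟩
  · have hr1 : r = 1 := by omega
    subst hr1
    have hFi : PicF.IsInvertible F := Groth.Agent.Ega2.QCohLocal.isFinLocFreeOfRank_one_iff.1 hF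
    obtain ⟨h1, h2⟩ := slope_inv k hL hn hnorm hG hFi β hβ
    exact ⟨by simpa using h1, fun h => ⟨rfl, h2 (by simpa using h)⟩⟩

end Slope

end K254.SlopeX
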