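import Groth.Agent.Fga.SnapperAbs
import Groth.Agent.Fga.SnapperTwist

/-!
# Snapper's theorem for additive functions vanishing on modules with zero-dimensional support

If `χ n` is additive on coherent modules, `χ (n + e_i) F = χ n (F ⊗ L_i)` and `χ n F = 0` whenever
`dim Supp F ≤ 0`, then `n ↦ χ n F` is a numerical polynomial of total degree `< dim Supp F`.
-/

set_option autoImplicit false
universe u
open CategoryTheory CategoryTheory.Limits AlgebraicGeometry Opposite TopologicalSpace

namespace K254.SnapperBase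

open Groth.Agent Groth.Agent.Fga Groth.Agent.Fga.ChiBasic Groth.Agent.VarietyA.NumPoly Groth.Agent.Fga.SnapperAbs
open Groth.Agent.Fga.SnapperTwist

variable {X : Scheme.{u}} [IsNoetherian X]

theorem isNumPoly_of_base {r : ℕ} (L : Fin r → X.Modules)
    (hL : ∀ i, PicF.IsInvertible (L i)) (χ : (Fin r → ℕ) → X.Modules → ℤ) (hχ : ∀ n, IsAdd (χ n))
    (hstep : ∀ (n : Fin r → ℕ) (i : Fin r) (F : X.Modules), Coh.IsCoh F →
      χ (n + Pi.single i 1) F = χ n (CohB1.tensorMod F (L i)))
    (hbase : ∀ (n : Fin r → ℕ) (F : X.Modules), Coh.IsCoh F →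
      topologicalKrullDim (CohB1.support F) < ((1 : ℕ) : WithBot ℕ∞) → χ n F = 0)
    (d : ℕ) (F : X.Modules) (hF : Coh.IsCoh F)
    (hd : topologicalKrullDim (CohB1.support F) < ((d + 1 : ℕ) : WithBot ℕ∞)) :
    IsNumPoly d (fun n => (χ n F : ℚ)) := by
  induction d generalizing F with
  | zero => exact (IsNumPoly.zero 0).congr fun n => by rw [hbase n F hF hd, Int.cast_zero]
  | succ d ih =>
    have hT : IsClosed (CohB1.support F) := Ega3B.Devissage.isClosed_support hF
    refine Ega3B.Devissage.devissage (CohB1.support F) hT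
      (fun M => IsNumPoly (d + 1) (fun n => (χ n M : ℚ))) ?_ ?_ ?_ F hF subset_rfl
    · intro M hM
      exact (IsNumPoly.zero _).congr fun n => by rw [chi_isZero (hχ n) hM, Int.cast_zero]
    · intro S hS h1 h2 h3 _
      have key : ∀ n, (χ n S.X₂ : ℚ) = χ n S.X₁ + χ n S.X₃ := fun n => by
        rw [hχ n S hS h1 h2 h3, Int.cast_add]
      refine ⟨fun ha hb => ?_, fun ha hb => ?_, fun ha hb => ?_⟩
      · exact (isNumPoly_sub hb ha).congr fun n => by rw [key]; ring
      · exact (ha.add hb).congr fun n => key n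
      · exact (isNumPoly_sub ha hb).congr fun n => by rw [key]; ring
    · intro y hy
      obtain ⟨Z, i, hi, hZ, hgen, hrange⟩ := IntegralSub.exists_integral_closed y
      let G := (Coh.push i).obj (Coh.structureModule Z)
      have hG : Coh.IsCoh G := S0019.result i _ (Fdesc.StructMod.isCoh_structureModule _)
      have hGs : CohB1.support G ⊆ closure {y} :=
        (CohqB.DevSimple.support_push_subset_range i _).trans hrange.le
      have hsimple : IsSimpleModule (X.presheaf.stalk y) (G.presheaf.stalk y) := by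
        have : Nonempty (⊤ : Z.Opens) := ⟨⟨genericPoint Z, trivial⟩⟩
        have h := CohqB.DevSimple.isSimpleModule_stalk_push i (Coh.structureModule Z) ⊤
          ⟨Scheme.Modules.restrictUnitIso _⟩
        rw [hgen] at h
        exact h
      have hcl : closure {y} ⊆ CohB1.support F := closure_minimal (Set.singleton_subset_iff.mpr hy) hT
      have hdim : topologicalKrullDim (closure {y} : Set X) < ((d + 1 + 1 : ℕ) : WithBot ℕ∞) :=
        lt_of_le_of_lt (DimLt.topologicalKrullDim_mono hcl) hd
      refine ⟨G, hG, ?_, hGs, hsimple⟩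
      refine isNumPoly_of_diff _ fun j => ?_
      obtain ⟨U, G', p, q, hyU, hG', hkp, hcp, hkq, hcq, hsG'⟩ := Compare.exists_compare hG (hL j) y
      have hGL : Coh.IsCoh (CohB1.tensorMod G (L j)) := TwistCoh.isCoh_tensor hG (hL j)
      -- the small closed set
      let W : Set X := closure {y} \ U
      have hWc : IsClosed W := isClosed_closure.sdiff U.isOpen
      have hW : topologicalKrullDim W < ((d + 1 : ℕ) : WithBot ℕ∞) := by
        refine DimLt.topologicalKrullDim_lt isIrreducible_singleton.closure hWc Set.sdiff_subset ?_ hdim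
        intro h
        have : y ∈ W := by rw [h]; exact subset_closure rfl
        exact this.2 hyU
      have small : ∀ K : X.Modules, Coh.IsCoh K → CohB1.support K ⊆ closure {y} →
          (∀ z ∈ U, z ∉ CohB1.support K) → IsNumPoly d (fun n => (χ n K : ℚ)) := by
        intro K hK h1 h2
        refine ih K hK (lt_of_le_of_lt (DimLt.topologicalKrullDim_mono ?_) hW)
        exact fun z hz => ⟨h1 hz, fun hzU => h2 z hzU hz⟩
      have s1 := small (kernel p) (Sga67.CohBasic.isCoh_kernel p hG' hG.1)
        ((CohqB.DevSupport.support_subset_of_mono (kernel.ι p)).trans (hsG'.trans hGs)) hkp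
      have s2 := small (cokernel p) (Sga67.CohBasic.isCoh_cokernel p hG'.1 hG)
        ((CohqB.DevSupport.support_subset_of_epi (cokernel.π p)).trans hGs) hcp
      have s3 := small (kernel q) (Sga67.CohBasic.isCoh_kernel q hG' hGL.1)
        ((CohqB.DevSupport.support_subset_of_mono (kernel.ι q)).trans (hsG'.trans hGs)) hkq
      have s4 := small (cokernel q) (Sga67.CohBasic.isCoh_cokernel q hG'.1 hGL)
        ((CohqB.DevSupport.support_subset_of_epi (cokernel.π q)).trans
          ((TwistCoh.support_tensor_subset (hL j)).trans hGs)) hcq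
      refine IsNumPoly.congr (isNumPoly_sub (isNumPoly_sub s4 s3) (isNumPoly_sub s2 s1)) fun n => ?_
      have e1 := chi_map (hχ n) p hG' hG
      have e2 := chi_map (hχ n) q hG' hGL
      have e3 := hstep n j G hG
      have : χ (n + Pi.single j 1) G - χ n G = (χ n (cokernel q) - χ n (kernel q)) -
          (χ n (cokernel p) - χ n (kernel p)) := by omega
      exact_mod_cast this

/-- Snapper's theorem for one invertible module, with vanishing in dimension `0`: polynomial of degree `< d`. -/
theorem snapper_base {χ : X.Modules → ℤ} (hχ : IsAdd χ)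
    (hbase : ∀ F : X.Modules, Coh.IsCoh F →
      topologicalKrullDim (CohB1.support F) < ((1 : ℕ) : WithBot ℕ∞) → χ F = 0)
    {L : X.Modules} (hL : PicF.IsInvertible L) (F : X.Modules) (hF : Coh.IsCoh F) (d : ℕ)
    (hd : topologicalKrullDim (CohB1.support F) < ((d + 1 + 1 : ℕ) : WithBot ℕ∞)) :
    ∃ P : Polynomial ℚ, P.natDegree ≤ d ∧
      ∀ m : ℕ, (χ (CohB1.tensorMod (CohB1.tensorPow L m) F) : ℚ) = P.eval (m : ℚ) := by
  let Λ : Fin 1 → X.Modules := fun _ => L
  have hΛ : ∀ i, PicF.IsInvertible (Λ i) := fun _ => hL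
  have h := isNumPoly_of_base Λ hΛ (fun m F => χ (CohB1.tensorMod (FGA.multiTwist Λ m) F))
    (fun m => isAdd_twist hχ (isInvertible_multiTwist Λ hΛ m)) (fun m i F hF => ?_) (fun n F hF h0 => ?_)
    (d + 1) F hF hd
  · obtain ⟨P, hP, hP'⟩ := h
    have hdeg : P.totalDegree ≤ d := Finset.sup_le fun m hm => by
      have := hP m hm
      rw [Finsupp.degree_eq_sum] at this
      rw [Finsupp.sum_fintype _ _ (fun _ => rfl)]
      omega
    refine ⟨MvPolynomial.aeval (fun _ => Polynomial.X) P, ?_, fun m => ?_⟩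
    · simpa using MvPolynomial.aeval_natDegree_le P hdeg (fun _ : Fin 1 => (Polynomial.X : Polynomial ℚ)) (n := 1)
        (fun _ => Polynomial.natDegree_X_le)
    · have h2 : (MvPolynomial.aeval (fun _ => (Polynomial.X : Polynomial ℚ)) P).eval (m : ℚ) =
          MvPolynomial.eval (fun _ : Fin 1 => (m : ℚ)) P := by
        have h3 := MvPolynomial.comp_aeval_apply (f := fun _ : Fin 1 => (Polynomial.X : Polynomial ℚ))
          (Polynomial.aeval (R := ℚ) (m : ℚ)) P
        simp only [Polynomial.aeval_X] at h3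
        rw [Polynomial.coe_aeval_eq_eval] at h3
        rw [← MvPolynomial.coe_aeval_eq_eval]
        exact h3
      have h4 := hP' fun _ => m
      rw [h2, ← h4]
      have e : Nonempty (CohB1.tensorMod (CohB1.tensorPow L m) F ≅
          CohB1.tensorMod (FGA.multiTwist Λ fun _ => m) F) := by
        rw [← PicMon.mc_eq_iff, PicMon.mc_tensor, PicMon.mc_tensor, PicMon.mc_multiTwist, PicMon.mc_tensorPow]
        simp [Λ]
      obtain ⟨e⟩ := e
      exact congrArg _ (chi_iso hχ e (isCoh_tensor' (Fdesc.LocGen.isInvertible_tensorPow hL m) hF))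
  · obtain ⟨e⟩ := step_iso Λ m i F
    exact chi_iso hχ e (isCoh_tensor' (isInvertible_multiTwist Λ hΛ _) hF)
  · refine hbase _ (isCoh_tensor' (isInvertible_multiTwist Λ hΛ _) hF) (lt_of_le_of_lt ?_ h0)
    refine DimLt.topologicalKrullDim_mono ?_
    have h1 := TwistCoh.support_tensor_subset (F := F) (isInvertible_multiTwist Λ hΛ n)
    refine subset_trans ?_ h1
    exact CohqB.DevSupport.support_subset_of_mono (Ega2.Tens.swap _ _).hom

/-- In dimension `≤ 2`, the second differences of `m ↦ χ(L^m ⊗ F)` vanish. -/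
theorem second_diff {χ : X.Modules → ℤ} (hχ : IsAdd χ)
    (hbase : ∀ F : X.Modules, Coh.IsCoh F →
      topologicalKrullDim (CohB1.support F) < ((1 : ℕ) : WithBot ℕ∞) → χ F = 0)
    {L : X.Modules} (hL : PicF.IsInvertible L) (F : X.Modules) (hF : Coh.IsCoh F)
    (hd : topologicalKrullDim (CohB1.support F) ≤ ((2 : ℕ) : WithBot ℕ∞)) (m : ℕ) :
    χ (CohB1.tensorMod (CohB1.tensorPow L m) F) - 2 * χ (CohB1.tensorMod (CohB1.tensorPow L (m + 1)) F) +
      χ (CohB1.tensorMod (CohB1.tensorPow L (m + 2)) F) = 0 := by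
  obtain ⟨P, hP, h⟩ := snapper_base hχ hbase hL F hF 1 (lt_of_le_of_lt hd (by norm_cast))
  have e : ∀ x : ℚ, P.eval x = P.coeff 0 + P.coeff 1 * x := fun x => by
    rw [Polynomial.eval_eq_sum_range' (Nat.lt_succ_of_le hP)]
    simp [Finset.sum_range_succ]
  have h0 := h m
  have h1 := h (m + 1)
  have h2 := h (m + 2)
  rw [e] at h0 h1 h2
  have : ((χ (CohB1.tensorMod (CohB1.tensorPow L m) F) - 2 * χ (CohB1.tensorMod (CohB1.tensorPow L (m + 1)) F) +
      χ (CohB1.tensorMod (CohB1.tensorPow L (m + 2)) F) : ℤ) : ℚ) = 0 := by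
    push_cast [h0, h1, h2]
    ring
  exact_mod_cast this

end K254.SnapperBase
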