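import Groth.Agent.TautSh.K254.Num
import Groth.Agent.TautSh.K254.SlopeX

/-!
# The triple symbol of `L ⊠ L` on a symmetric invertible module on `X × X`
-/

set_option autoImplicit false
universe u
open CategoryTheory CategoryTheory.Limits AlgebraicGeometry Opposite TopologicalSpace Polynomial

namespace K254.Triple

open Groth.Agent Groth.Agent.Fga Groth.Agent.Fga.PicMon Groth.Agent.Fga.SnapperTwist
open K848.HB K848.Poly K848.Stab K848.Rank StabCat K254.Slice K254.Num K254.SlopeX

theorem mc_pull_congr {X Y : Scheme.{u}} (f : X ⟶ Y) {A B : Y.Modules} (h : mc A = mc B) :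
    mc ((Scheme.Modules.pullback f).obj A) = mc ((Scheme.Modules.pullback f).obj B) := by
  obtain ⟨e⟩ := (mc_eq_iff _ _).1 h
  exact mc_eq ((Scheme.Modules.pullback f).mapIso e)

variable (k : Type u) [Field k] [IsAlgClosed k] {X P : Scheme.{u}} [X.Over (Spec (CommRingCat.of k))]
  [P.Over (Spec (CommRingCat.of k))] [IsProper (X ↘ Spec (CommRingCat.of k))]
  [IsProper (P ↘ Spec (CommRingCat.of k))] [IsIntegral X]
  (hn : topologicalKrullDim X = (2 : ℕ)) {L M : X.Modules} (hL : CohB1.IsAmple L) (hM : PicF.IsInvertible M)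
  (hML : mc M * mc L = 1)
  {p q : P ⟶ X} [IsProper p] [Flat p] (hpX : p ≫ (X ↘ Spec (CommRingCat.of k)) = P ↘ Spec (CommRingCat.of k))

section X

include hn hL hM hML
omit [IsAlgClosed k]

theorem eul_poly {F : X.Modules} (hF : Coh.IsCoh F) (j : ℕ) :
    (eul k X (mc F * mc M ^ j) : ℚ) = alpha 0 (hp k L F) - alpha 1 (hp k L F) * j +
      alpha 2 (hp k L F) / 2 * j ^ 2 := by
  rw [eul_twist k hL.1 hM hML hF, eval_hp_two k hL.1 hn.le hF]
  ring

end X

include hn hL hM hML hpX

theorem slice_eul {σ : Spec (CommRingCat.of k) ⟶ X} {i : X ⟶ P}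
    (H : IsPullback i (X ↘ Spec (CommRingCat.of k)) p σ) {V : P.Modules} (hV : PicF.IsInvertible V) (a : ℕ) :
    (eul k P (mc V * mc ((Scheme.Modules.pullback p).obj M) ^ a) : ℚ) -
        2 * eul k P (mc V * mc ((Scheme.Modules.pullback p).obj M) ^ (a + 1)) +
        eul k P (mc V * mc ((Scheme.Modules.pullback p).obj M) ^ (a + 2)) =
      eul k X (mc ((Scheme.Modules.pullback i).obj V)) * alpha 2 (hp k L (Coh.structureModule X)) := by
  have hO : Coh.IsCoh (Coh.structureModule X) := isCoh_structureModule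
  have e1 : ∀ m : ℕ, lam k p V (CohB1.tensorMod (CohB1.tensorPow M m) (Coh.structureModule X)) =
      eul k P (mc V * mc ((Scheme.Modules.pullback p).obj M) ^ m) := by
    intro m
    rw [lam, ← eul_mc, mc_tensor, mc_pull_congr p (B := CohB1.tensorPow M m), mc_pull_pow p hM]
    rw [mc_tensor, mc_one, mul_one]
  have e2 : ∀ m : ℕ, Curv2.euler k X (CohB1.tensorMod (CohB1.tensorPow M m) (Coh.structureModule X)) =
      eul k X (mc (Coh.structureModule X) * mc M ^ m) := by
    intro m
    rw [← eul_mc, mc_tensor, mc_tensorPow, mul_comm]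
  have h1 := second_diff_lam k p hpX hV (σ (IsLocalRing.closedPoint k)) hM hn.le _ hO a
  rw [e1, e1, e1, e2, e2, e2] at h1
  have h2 := K846.ChiPt.euler_pt p σ (IsLocalRing.closedPoint k) i (X ↘ Spec (CommRingCat.of k)) H V
    (isCoh_of_isInvertible hV).1
  have h3 : PerfAux.eulerChar p V (σ (IsLocalRing.closedPoint k)) =
      eul k X (mc ((Scheme.Modules.pullback i).obj V)) := h2.symm
  rw [h3] at h1
  have h4 : ((eul k P (mc V * mc ((Scheme.Modules.pullback p).obj M) ^ a) -
        2 * eul k P (mc V * mc ((Scheme.Modules.pullback p).obj M) ^ (a + 1)) +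
        eul k P (mc V * mc ((Scheme.Modules.pullback p).obj M) ^ (a + 2)) : ℤ) : ℚ) = _ := congrArg _ h1
  push_cast at h4
  rw [h4, eul_poly k hn hL hM hML hO, eul_poly k hn hL hM hML hO, eul_poly k hn hL hM hML hO]
  push_cast
  ring

/-- **The triple symbol of `L ⊠ L` on a symmetric invertible module.** -/
theorem triple {σ : Spec (CommRingCat.of k) ⟶ X} {i : X ⟶ P}
    (H : IsPullback i (X ↘ Spec (CommRingCat.of k)) p σ) (hiq : i ≫ q = 𝟙 X) {s : P ⟶ P} [IsIso s]
    (hsp : s ≫ p = q) (hsq : s ≫ q = p)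
    (hq : q ≫ (X ↘ Spec (CommRingCat.of k)) = P ↘ Spec (CommRingCat.of k))
    {G : P.Modules} (hG : PicF.IsInvertible G) (esw : mc ((Scheme.Modules.pullback s).obj G) = mc G)
    (h : MC P) (hh : h = mc ((Scheme.Modules.pullback p).obj M) * mc ((Scheme.Modules.pullback q).obj M)) :
    (eul k P (mc G) : ℚ) - 3 * eul k P (h * mc G) + 3 * eul k P (h ^ 2 * mc G) - eul k P (h ^ 3 * mc G) =
      6 * alpha 2 (hp k L (Coh.structureModule X)) *
        alpha 1 (hp k L ((Scheme.Modules.pullback i).obj G)) -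
        9 * alpha 2 (hp k L (Coh.structureModule X)) ^ 2 := by
  set m0 := mc ((Scheme.Modules.pullback p).obj M) with hm0
  set m1 := mc ((Scheme.Modules.pullback q).obj M) with hm1
  have hMp : PicF.IsInvertible ((Scheme.Modules.pullback p).obj M) := CycB.C1Pull.isInvertible_pullback p hM
  have hMq : PicF.IsInvertible ((Scheme.Modules.pullback q).obj M) := CycB.C1Pull.isInvertible_pullback q hM
  have hGi : PicF.IsInvertible ((Scheme.Modules.pullback i).obj G) := CycB.C1Pull.isInvertible_pullback i hG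
  let N : ℕ → ℕ → ℚ := fun a b => (eul k P (mc G * m1 ^ b * m0 ^ a) : ℚ)
  have hN : ∀ a b, N a b - 2 * N (a + 1) b + N (a + 2) b =
      (alpha 0 (hp k L ((Scheme.Modules.pullback i).obj G)) -
        alpha 1 (hp k L ((Scheme.Modules.pullback i).obj G)) * b +
        alpha 2 (hp k L (Coh.structureModule X)) / 2 * b ^ 2) *
        alpha 2 (hp k L (Coh.structureModule X)) := by
    intro a b
    have hV : PicF.IsInvertible (CohB1.tensorMod G (CohB1.tensorPow ((Scheme.Modules.pullback q).obj M) b)) :=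
      Fdesc.LocGen.isInvertible_tensorMod hG (Fdesc.LocGen.isInvertible_tensorPow hMq b)
    have h1 := slice_eul k hn hL hM hML hpX H hV a
    have h2 : mc (CohB1.tensorMod G (CohB1.tensorPow ((Scheme.Modules.pullback q).obj M) b)) = mc G * m1 ^ b := by
      rw [mc_tensor, mc_tensorPow]
    have h3 : mc ((Scheme.Modules.pullback i).obj
        (CohB1.tensorMod G (CohB1.tensorPow ((Scheme.Modules.pullback q).obj M) b))) =
        mc ((Scheme.Modules.pullback i).obj G) * mc M ^ b := by
      rw [mc_pull_twist i G hMq, mc_pull_comp i q (𝟙 X) hiq, mc_pull_id]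
    rw [h2, h3, eul_poly k hn hL hM hML (isCoh_of_isInvertible hGi), alpha_inv k hL hn hGi] at h1
    exact h1
  have hsym : ∀ a b, N a b = N b a := by
    intro a b
    let W := CohB1.tensorMod (CohB1.tensorMod G (CohB1.tensorPow ((Scheme.Modules.pullback q).obj M) b))
      (CohB1.tensorPow ((Scheme.Modules.pullback p).obj M) a)
    have hW : PicF.IsInvertible W := Fdesc.LocGen.isInvertible_tensorMod (Fdesc.LocGen.isInvertible_tensorMod hG
      (Fdesc.LocGen.isInvertible_tensorPow hMq b)) (Fdesc.LocGen.isInvertible_tensorPow hMp a)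
    have hs : s ≫ (P ↘ Spec (CommRingCat.of k)) = P ↘ Spec (CommRingCat.of k) := by
      rw [← hpX, ← Category.assoc, hsp, hq, hpX]
    have h1 := euler_pullback_iso k s hs (isCoh_of_isInvertible hW).1
    have h2 : mc W = mc G * m1 ^ b * m0 ^ a := by
      rw [mc_tensor, mc_tensor, mc_tensorPow, mc_tensorPow]
    have h3 : mc ((Scheme.Modules.pullback s).obj W) = mc G * m1 ^ a * m0 ^ b := by
      rw [mc_pull_twist s _ hMp, mc_pull_twist s _ hMq, mc_pull_comp s p q hsp, mc_pull_comp s q p hsq, esw]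
      exact mul_right_comm _ _ _
    change (eul k P (mc G * m1 ^ b * m0 ^ a) : ℚ) = (eul k P (mc G * m1 ^ a * m0 ^ b) : ℚ)
    rw [← h2, ← h3, eul_mc, eul_mc, h1]
  have h4 := arith4 N _ hsym hN
  have e : ∀ j : ℕ, h ^ j * mc G = mc G * m1 ^ j * m0 ^ j := by
    intro j
    rw [hh, mul_pow, mul_comm (m0 ^ j * m1 ^ j), mul_comm (m0 ^ j), mul_assoc]
  have e0 : eul k P (mc G) = eul k P (mc G * m1 ^ 0 * m0 ^ 0) := by rw [pow_zero, pow_zero, mul_one, mul_one]
  have e1 : h * mc G = mc G * m1 ^ 1 * m0 ^ 1 := by rw [← e, pow_one]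
  rw [e0, e1, e 2, e 3]
  refine Eq.trans h4 ?_
  push_cast
  ring

end K254.Triple
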